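import Cfsg.Agent.Coprime.Action

/-!
Coprime action on an abelian group: `V = C_V(A) × [V,A]`.
-/

open Pointwise
open scoped commutatorElement IsMulCommutative

namespace CfsgLib.Coprime

variable {X : Type*} [Group X] {V A : Subgroup X}

/-- For `A` normalising an abelian `V` with coprime orders, `C_V(A) ∩ [V,A] = 1`. -/
theorem inf_centralizer_inf_commutator_eq_bot [Finite X] [IsMulCommutative V]
    (hAV : A ≤ Subgroup.normalizer (V : Set X)) (hcop : (Nat.card A).Coprime (Nat.card V)) :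
    (V ⊓ Subgroup.centralizer (A : Set X)) ⊓ ⁅V, A⁆ = ⊥ := by
  classical
  cases nonempty_fintype A
  have hmem : ∀ (a : A) (v : V), (a : X) * v * (a : X)⁻¹ ∈ V := fun a v =>
    (Subgroup.mem_normalizer_iff.mp (hAV a.2) v).mp v.2
  let σ : A → (V →* V) := fun a =>
    { toFun := fun v => ⟨(a : X) * v * (a : X)⁻¹, hmem a v⟩
      map_one' := Subtype.ext (by simp)
      map_mul' := fun v w => Subtype.ext (by simp [mul_assoc]) }
  have hσmul : ∀ a b v, σ a (σ b v) = σ (a * b) v := fun a b v =>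
    Subtype.ext (by simp [σ, mul_assoc])
  let φ : V →* V :=
    { toFun := fun v => ∏ a : A, σ a v
      map_one' := by simp
      map_mul' := fun v w => by simp [Finset.prod_mul_distrib] }
  have hinv : ∀ (b : A) (v : V), φ (σ b v) = φ v := by
    intro b v
    show ∏ a : A, σ a (σ b v) = ∏ a : A, σ a v
    simp only [hσmul]
    exact Fintype.prod_equiv (Equiv.mulRight b) _ _ fun a => rfl
  have hle : ⁅V, A⁆ ≤ φ.ker.map V.subtype := by
    refine Subgroup.commutator_le.mpr fun v hv a ha => ?_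
    refine ⟨⟨v, hv⟩ * σ ⟨a, ha⟩ ⟨v, hv⟩⁻¹, ?_, ?_⟩
    · rw [SetLike.mem_coe, MonoidHom.mem_ker, map_mul, hinv, map_inv, mul_inv_cancel]
    · simp [σ, commutatorElement_def, mul_assoc]
  rw [eq_bot_iff]
  intro x hx
  obtain ⟨⟨hxV, hxC⟩, hxcomm⟩ := Subgroup.mem_inf.mp hx
  obtain ⟨v, hv, rfl⟩ := hle hxcomm
  have h1 : φ v = v ^ Fintype.card A := by
    show ∏ a : A, σ a v = _
    rw [Finset.prod_eq_pow_card (fun a _ => Subtype.ext ?_), Finset.card_univ]
    show (a : X) * v * (a : X)⁻¹ = v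
    rw [show (a : X) * v = v * a from Subgroup.mem_centralizer_iff.mp hxC a a.2,
      mul_inv_cancel_right]
  rw [SetLike.mem_coe, MonoidHom.mem_ker, h1] at hv
  have h2 : orderOf v = 1 := Nat.eq_one_of_dvd_coprimes hcop
    (Nat.card_eq_fintype_card (α := A) ▸ orderOf_dvd_of_pow_eq_one hv) (orderOf_dvd_natCard v)
  rw [orderOf_eq_one_iff] at h2
  simp [h2]

/-- For `A` normalising an abelian `V` with coprime orders, `C_V(A) [V,A] = V`. -/
theorem inf_centralizer_sup_commutator_eq [Finite X] [IsMulCommutative V]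
    (hAV : A ≤ Subgroup.normalizer (V : Set X)) (hcop : (Nat.card A).Coprime (Nat.card V)) :
    (V ⊓ Subgroup.centralizer (A : Set X)) ⊔ ⁅V, A⁆ = V := by
  rw [sup_comm]
  exact commutator_sup_centralizer hAV hcop (Or.inr (Group.isSolvable_of_comm fun a b => mul_comm a b))

/-- A coprime action on an abelian group fixing all elements of prime order is trivial. -/
theorem le_centralizer_of_forall_prime_order [Finite X] [IsMulCommutative V]
    (hAV : A ≤ Subgroup.normalizer (V : Set X)) (hcop : (Nat.card A).Coprime (Nat.card V))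
    (h : ∀ v ∈ V, (orderOf v).Prime → v ∈ Subgroup.centralizer (A : Set X)) :
    A ≤ Subgroup.centralizer (V : Set X) := by
  rw [← Subgroup.commutator_eq_bot_iff_le_centralizer, Subgroup.commutator_comm]
  by_contra hne
  obtain ⟨p, hp, hdvd⟩ := Nat.exists_prime_and_dvd
    (mt Subgroup.card_eq_one.mp hne : Nat.card ↥⁅V, A⁆ ≠ 1)
  have := Fact.mk hp
  obtain ⟨x, hx⟩ := exists_prime_orderOf_dvd_card' p hdvd
  have hxV : (x : X) ∈ V := commutator_le_of_le_normalizer hAV x.2
  have hord : orderOf (x : X) = p := by rw [Subgroup.orderOf_coe, hx]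
  have h1 : (x : X) ∈ (V ⊓ Subgroup.centralizer (A : Set X)) ⊓ ⁅V, A⁆ :=
    Subgroup.mem_inf.mpr ⟨Subgroup.mem_inf.mpr ⟨hxV, h _ hxV (hord.symm ▸ hp)⟩, x.2⟩
  rw [inf_centralizer_inf_commutator_eq_bot hAV hcop, Subgroup.mem_bot] at h1
  rw [h1, orderOf_one] at hord
  exact hp.one_lt.ne hord

end CfsgLib.Coprime
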