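import Mathlib.GroupTheory.Index
import Mathlib.GroupTheory.Complement
import Mathlib.GroupTheory.Solvable
import Mathlib.GroupTheory.Commutator.Basic
import Mathlib.GroupTheory.GroupAction.ConjAct
import Mathlib.Algebra.Group.Subgroup.Pointwise

/-!
Elementary facts about conjugates, products and coprime subgroups inside an ambient group.
Part of the coprime-action library.
-/

open Pointwise

namespace CfsgLib.Coprime

variable {G : Type*} [Group G]

theorem mem_conj_smul {g x : G} {H : Subgroup G} :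
    x ∈ MulAut.conj g • H ↔ g⁻¹ * x * g ∈ H := by
  rw [Subgroup.mem_pointwise_smul_iff_inv_smul_mem]
  simp [MulAut.smul_def]

theorem conj_mem_conj_smul {g x : G} {H : Subgroup G} (hx : x ∈ H) :
    g * x * g⁻¹ ∈ MulAut.conj g • H := by
  rw [mem_conj_smul]
  simpa [mul_assoc] using hx

theorem conj_smul_conj_smul (g h : G) (H : Subgroup G) :
    MulAut.conj g • MulAut.conj h • H = MulAut.conj (g * h) • H := by
  rw [map_mul, mul_smul]

@[simp] theorem conj_one_smul (H : Subgroup G) : MulAut.conj (1 : G) • H = H := by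
  rw [map_one, one_smul]

theorem mem_normalizer_iff_conj_smul_eq {g : G} {H : Subgroup G} :
    g ∈ Subgroup.normalizer (H : Set G) ↔ MulAut.conj g • H = H := by
  rw [Subgroup.mem_normalizer_iff_map_conj_eq]
  rfl

theorem conj_smul_eq_self {g : G} {H : Subgroup G}
    (h : g ∈ Subgroup.normalizer (H : Set G)) : MulAut.conj g • H = H :=
  mem_normalizer_iff_conj_smul_eq.mp h

theorem card_conj_smul (g : G) (H : Subgroup G) :
    Nat.card ↥(MulAut.conj g • H) = Nat.card H :=
  (Nat.card_congr (Subgroup.equivSMul (MulAut.conj g) H).toEquiv).symm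

theorem conj_smul_le_of_mem {g : G} {H L : Subgroup G} (hg : g ∈ L) (hH : H ≤ L) :
    MulAut.conj g • H ≤ L :=
  Subgroup.conj_smul_le_of_le hH ⟨g, hg⟩

/-- A subgroup normalising `N` normalises the conjugate of `N` by an element of its normaliser. -/
theorem le_normalizer_of_eq_self {A N : Subgroup G}
    (h : ∀ a ∈ A, MulAut.conj a • N = N) : A ≤ Subgroup.normalizer (N : Set G) :=
  fun a ha => mem_normalizer_iff_conj_smul_eq.mpr (h a ha)

theorem inf_eq_bot_of_coprime {A B : Subgroup G}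
    (h : (Nat.card A).Coprime (Nat.card B)) : A ⊓ B = ⊥ :=
  disjoint_iff.mp (Subgroup.disjoint_of_coprime_natCard h)

/-- The order of a product of two subgroups of coprime order, one normalising the other. -/
theorem card_sup_eq [Finite G] {N H : Subgroup G} (hH : H ≤ Subgroup.normalizer (N : Set G))
    (hdisj : N ⊓ H = ⊥) : Nat.card ↥(N ⊔ H) = Nat.card N * Nat.card H := by
  rw [← Nat.card_prod]
  refine Nat.card_congr (Equiv.ofBijective
    (fun x : N × H => (⟨(x.1 : G) * x.2,
      Subgroup.mul_mem_sup x.1.2 x.2.2⟩ : ↥(N ⊔ H))) ⟨?_, ?_⟩).symm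
  · rintro ⟨a, b⟩ ⟨c, d⟩ hab
    simp only [Subtype.mk.injEq] at hab
    have hac : (c : G)⁻¹ * a = d * (b : G)⁻¹ := by
      rw [inv_mul_eq_iff_eq_mul, ← mul_assoc, eq_mul_inv_iff_mul_eq]; exact hab
    have hmem : (c : G)⁻¹ * a ∈ N ⊓ H :=
      Subgroup.mem_inf.mpr ⟨N.mul_mem (N.inv_mem c.2) a.2, hac ▸ H.mul_mem d.2 (H.inv_mem b.2)⟩
    rw [hdisj, Subgroup.mem_bot] at hmem
    have h1 : (a : G) = c := (inv_mul_eq_one.mp hmem).symm
    have h2 : (b : G) = d := by
      rw [hmem, eq_comm, mul_inv_eq_one] at hac; exact hac.symm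
    exact Prod.ext (Subtype.ext h1) (Subtype.ext h2)
  · rintro ⟨x, hx⟩
    rw [← SetLike.mem_coe, Subgroup.coe_mul_of_right_le_normalizer_left N H hH] at hx
    obtain ⟨n, hn, m, hm, rfl⟩ := hx
    exact ⟨(⟨n, hn⟩, ⟨m, hm⟩), rfl⟩

theorem exists_mul_of_mem_sup {N H : Subgroup G} (hH : H ≤ Subgroup.normalizer (N : Set G))
    {x : G} (hx : x ∈ N ⊔ H) : ∃ n ∈ N, ∃ h ∈ H, n * h = x := by
  rw [← SetLike.mem_coe, Subgroup.coe_mul_of_right_le_normalizer_left N H hH] at hx
  exact hx

/-- The modular law for subgroups, in the form used below. -/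
theorem sup_inf_eq_of_le {N H M : Subgroup G} (hH : H ≤ Subgroup.normalizer (N : Set G))
    (hHM : H ≤ M) : (N ⊔ H) ⊓ M = (N ⊓ M) ⊔ H := by
  apply le_antisymm
  · rintro x ⟨hx, hxM⟩
    obtain ⟨n, hn, m, hm, rfl⟩ := exists_mul_of_mem_sup hH hx
    refine Subgroup.mul_mem_sup (Subgroup.mem_inf.mpr ⟨hn, ?_⟩) hm
    have := M.mul_mem hxM (M.inv_mem (hHM hm))
    simpa using this
  · exact sup_le (inf_le_inf le_sup_left le_rfl) (le_inf le_sup_right hHM)

theorem isSolvable_of_le {A B : Subgroup G} (h : A ≤ B) [Group.IsSolvable B] :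
    Group.IsSolvable A :=
  Group.isSolvable_of_isSolvable_injective (Subgroup.inclusion_injective h)

end CfsgLib.Coprime
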