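import Mathlib.GroupTheory.SchurZassenhaus
import Mathlib.GroupTheory.Sylow
import Mathlib.GroupTheory.SpecificGroups.Cyclic
import Cfsg.Agent.Coprime.Basic

/-!
The conjugacy half of the Schur–Zassenhaus theorem.

Main results, for subgroups `N H K` of a finite group with `H K ≤ N_G(N)`, coprime orders,
`N H = N K` and `|H| = |K|`, where `N` or `H` is solvable:
* `CfsgLib.Coprime.exists_conj_eq_of_sup_eq`: `H` and `K` are conjugate by an element of `N`.
* `CfsgLib.Coprime.exists_conj_eq_of_isComplement'`: the same for complements of a normal Hall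
  subgroup.
-/

open Pointwise

namespace CfsgLib.Coprime

variable {G : Type*} [Group G]

/-- Complements of an abelian normal subgroup of coprime index are conjugate. -/
theorem exists_conj_eq_of_isComplement'_of_abelian [Finite G] {A H K : Subgroup G} [A.Normal]
    [IsMulCommutative A] (hA : (Nat.card A).Coprime A.index)
    (hH : Subgroup.IsComplement' A H) (hK : Subgroup.IsComplement' A K) :
    ∃ a ∈ A, MulAut.conj a • H = K := by
  classical
  have key : ∀ L : Subgroup G, Subgroup.IsComplement' A L →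
      ∃ q : A.QuotientDiff, MulAction.stabilizer G q = L := by
    intro L hL
    let T : A.LeftTransversal := ⟨(L : Set G), hL.symm⟩
    let q : A.QuotientDiff := Quotient.mk'' T
    refine ⟨q, ?_⟩
    have hle : L ≤ MulAction.stabilizer G q := by
      intro g hg
      rw [MulAction.mem_stabilizer_iff]
      show (Quotient.mk'' (MulOpposite.op g⁻¹ • T) : A.QuotientDiff) = Quotient.mk'' T
      refine congrArg _ (Subtype.ext ?_)
      show MulOpposite.op g⁻¹ • (L : Set G) = L
      exact op_smul_coe_set (inv_mem hg)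
    refine (Subgroup.eq_of_le_of_card_ge hle (le_of_eq ?_)).symm
    rw [← (Subgroup.isComplement'_stabilizer_of_coprime hA
      (α := q)).symm.index_eq_card, hL.symm.index_eq_card]
  obtain ⟨q₁, h₁⟩ := key H hH
  obtain ⟨q₂, h₂⟩ := key K hK
  obtain ⟨a, ha⟩ := Subgroup.exists_smul_eq hA q₁ q₂
  refine ⟨a, a.2, ?_⟩
  rw [← h₁, ← h₂, ← ha]
  exact (MulAction.stabilizer_smul_eq_stabilizer_map_conj (a : G) q₁).symm

theorem sup_inf_eq_sup_inf_of_le {N H M : Subgroup G} (hH : H ≤ Subgroup.normalizer (N : Set G))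
    (hNM : N ≤ M) : (N ⊔ H) ⊓ M = N ⊔ (H ⊓ M) := by
  apply le_antisymm
  · rintro x ⟨hx, hxM⟩
    obtain ⟨n, hn, m, hm, rfl⟩ := exists_mul_of_mem_sup hH hx
    refine Subgroup.mul_mem_sup hn (Subgroup.mem_inf.mpr ⟨hm, ?_⟩)
    have := M.mul_mem (M.inv_mem (hNM hn)) hxM
    simpa using this
  · exact sup_le (le_inf le_sup_left hNM) (inf_le_inf le_sup_right le_rfl)

private theorem sup_eq_abelian [Finite G] {N H K : Subgroup G}
    [IsMulCommutative N] (hH : H ≤ Subgroup.normalizer (N : Set G))
    (hK : K ≤ Subgroup.normalizer (N : Set G)) (hcop : (Nat.card N).Coprime (Nat.card H))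
    (hcard : Nat.card K = Nat.card H) (heq : N ⊔ H = N ⊔ K) :
    ∃ n ∈ N, MulAut.conj n • H = K := by
  set L := N ⊔ H with hL
  have hN' : N ≤ L := le_sup_left
  have hH' : H ≤ L := le_sup_right
  have hK' : K ≤ L := heq ▸ le_sup_right
  have : (N.subgroupOf L).Normal :=
    (Subgroup.normal_subgroupOf_iff_le_normalizer hN').mpr (sup_le Subgroup.le_normalizer hH)
  have cN : Nat.card (N.subgroupOf L) = Nat.card N :=
    Nat.card_congr (Subgroup.subgroupOfEquivOfLe hN').toEquiv
  have cH : Nat.card (H.subgroupOf L) = Nat.card H :=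
    Nat.card_congr (Subgroup.subgroupOfEquivOfLe hH').toEquiv
  have cK : Nat.card (K.subgroupOf L) = Nat.card K :=
    Nat.card_congr (Subgroup.subgroupOfEquivOfLe hK').toEquiv
  have cL : Nat.card L = Nat.card N * Nat.card H := card_sup_eq hH (inf_eq_bot_of_coprime hcop)
  have hA : IsMulCommutative (N.subgroupOf L) :=
    ⟨⟨fun a b => Subtype.ext (Subtype.ext (setLike_mul_comm (s := N) a.2 b.2))⟩⟩
  have cH2 : Subgroup.IsComplement' (N.subgroupOf L) (H.subgroupOf L) :=
    Subgroup.isComplement'_of_coprime (by rw [cN, cH, cL]) (by rw [cN, cH]; exact hcop)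
  have cK2 : Subgroup.IsComplement' (N.subgroupOf L) (K.subgroupOf L) :=
    Subgroup.isComplement'_of_coprime (by rw [cN, cK, cL, hcard]) (by rw [cN, cK, hcard]; exact hcop)
  obtain ⟨a, ha, hconj⟩ := exists_conj_eq_of_isComplement'_of_abelian
    (by rw [cN, cH2.symm.index_eq_card, cH]; exact hcop) cH2 cK2
  refine ⟨(a : G), ha, ?_⟩
  rw [Subgroup.conj_smul_subgroupOf hH', Subgroup.subgroupOf_inj] at hconj
  have h1 : MulAut.conj (a : G) • H ≤ L := conj_smul_le_of_mem a.2 hH'
  have h2 : ((a : G) : G) = a := rfl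
  simpa [inf_eq_left.mpr h1, inf_eq_left.mpr hK', Subgroup.smul_def] using hconj

private theorem sup_eq_solvable_left [Finite G] (n : ℕ) :
    ∀ N H K : Subgroup G, N.Normal → Group.IsSolvable N → Nat.card N = n →
      (Nat.card N).Coprime (Nat.card H) → Nat.card K = Nat.card H → N ⊔ H = N ⊔ K →
      ∃ x ∈ N, MulAut.conj x • H = K := by
  induction n using Nat.strongRecOn with | ind n ih => ?_
  intro N H K hN hsolv hn hcop hcard heq
  rcases eq_or_ne N ⊥ with rfl | hbot
  · exact ⟨1, one_mem _, by simpa using heq⟩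
  have : Nontrivial N := (Subgroup.nontrivial_iff_ne_bot N).mpr hbot
  set M : Subgroup G := ⁅N, N⁆ with hM
  have hMN : M ≤ N := N.commutator_le_self
  have hMlt : M < N := by
    have h1 := (Subgroup.map_subtype_lt_map_subtype (G' := N)).mpr
      (Group.IsSolvable.commutator_lt_top_of_nontrivial N)
    rwa [Subgroup.map_subtype_commutator, ← MonoidHom.range_eq_map, N.range_subtype] at h1
  have hMnorm : M.Normal := by rw [hM]; infer_instance
  set f := QuotientGroup.mk' M with hf
  have : (N.map f).Normal := hN.map f (QuotientGroup.mk'_surjective M)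
  have hcomm : IsMulCommutative (N.map f) := by
    rw [← Subgroup.commutator_self_eq_bot_iff, ← Subgroup.map_commutator, ← hM,
      Subgroup.map_eq_bot_iff, hf, QuotientGroup.ker_mk']
  have hkerbot : ∀ L : Subgroup G, (Nat.card N).Coprime (Nat.card L) →
      Nat.card (L.map f) = Nat.card L := by
    intro L hL
    refine (Nat.card_congr (Equiv.ofBijective
      (fun x : L => (⟨f x, Subgroup.mem_map_of_mem f x.2⟩ : L.map f)) ⟨?_, ?_⟩)).symm
    · intro x y hxy
      simp only [Subtype.mk.injEq] at hxy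
      have h0 : f ((x : G)⁻¹ * y) = 1 := by rw [map_mul, map_inv, hxy, inv_mul_cancel]
      rw [hf, QuotientGroup.mk'_apply, QuotientGroup.eq_one_iff] at h0
      have : (x : G)⁻¹ * y ∈ N ⊓ L :=
        Subgroup.mem_inf.mpr ⟨hMN h0, L.mul_mem (L.inv_mem x.2) y.2⟩
      rw [inf_eq_bot_of_coprime hL, Subgroup.mem_bot, inv_mul_eq_one] at this
      exact Subtype.ext this
    · rintro ⟨y, x, hx, rfl⟩
      exact ⟨⟨x, hx⟩, rfl⟩
  have hle : ∀ L : Subgroup (G ⧸ M), L ≤ Subgroup.normalizer ((N.map f : Subgroup _) : Set _) :=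
    fun L => Subgroup.le_normalizer_of_normal
  obtain ⟨y, ⟨x, hx, rfl⟩, hy⟩ := sup_eq_abelian (hle (H.map f)) (hle (K.map f))
    (by rw [hkerbot H hcop]; exact hcop.coprime_dvd_left (Subgroup.card_map_dvd N f))
    (by rw [hkerbot H hcop, hkerbot K (hcard ▸ hcop), hcard])
    (by rw [← Subgroup.map_sup, ← Subgroup.map_sup, heq])
  have hmap : (MulAut.conj x • H).map f = K.map f := by
    rw [← hy]
    ext z
    simp only [Subgroup.mem_map]
    constructor
    · rintro ⟨w, hw, rfl⟩
      rw [mem_conj_smul] at hw ⊢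
      exact ⟨_, hw, by simp⟩
    · intro hz
      rw [mem_conj_smul] at hz
      obtain ⟨w, hw, hwz⟩ := hz
      refine ⟨x * w * x⁻¹, conj_mem_conj_smul hw, ?_⟩
      simp [hwz, mul_assoc]
  rw [Subgroup.map_eq_map_iff, hf, QuotientGroup.ker_mk', sup_comm, sup_comm K] at hmap
  obtain ⟨m, hm, hm'⟩ := ih (Nat.card M) (hn ▸ Set.Finite.card_lt_card (Set.toFinite _) hMlt)
    M (MulAut.conj x • H) K hMnorm (isSolvable_of_le hMN) rfl
    (by rw [card_conj_smul]; exact hcop.coprime_dvd_left (Subgroup.card_dvd_of_le hMN))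
    (by rw [card_conj_smul]; exact hcard) hmap
  exact ⟨m * x, N.mul_mem (hMN hm) hx, by rw [← conj_smul_conj_smul]; exact hm'⟩

/-- A nontrivial finite solvable group has a normal subgroup of prime index. -/
theorem exists_normal_index_prime (H : Type*) [Group H] [Finite H] [Group.IsSolvable H]
    [Nontrivial H] : ∃ M : Subgroup H, M.Normal ∧ M.index.Prime := by
  obtain ⟨M, hM, hle⟩ := (eq_top_or_exists_le_coatom (commutator H)).resolve_left
    (Group.IsSolvable.commutator_lt_top_of_nontrivial H).ne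
  have hn : M.Normal := Subgroup.Normal.of_commutator_le _ hle
  refine ⟨M, hn, ?_⟩
  have hc : IsMulCommutative (H ⧸ M) :=
    Subgroup.Normal.quotient_commutative_iff_commutator_le.mpr hle
  have : Nontrivial (H ⧸ M) := QuotientGroup.nontrivial_iff.mpr hM.1
  have : IsSimpleGroup (H ⧸ M) := by
    refine ⟨fun L _ => ?_⟩
    have h1 : M ≤ L.comap (QuotientGroup.mk' M) := by
      intro x hx
      simp only [Subgroup.mem_comap, QuotientGroup.mk'_apply]
      rw [(QuotientGroup.eq_one_iff x).mpr hx]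
      exact one_mem L
    have hsurj := QuotientGroup.mk'_surjective M
    rcases hM.le_iff.mp h1 with h | h
    · right
      exact Subgroup.comap_injective hsurj (h.trans (Subgroup.comap_top _).symm)
    · left
      rw [← Subgroup.map_comap_eq_self_of_surjective hsurj L, h, Subgroup.map_eq_bot_iff,
        QuotientGroup.ker_mk']
  rw [Subgroup.index_eq_card]
  exact (Group.is_simple_iff_prime_card).mp this

private theorem sup_eq_solvable_right [Finite G] (n : ℕ) :
    ∀ N H K : Subgroup G, H ≤ Subgroup.normalizer (N : Set G) →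
      K ≤ Subgroup.normalizer (N : Set G) → Group.IsSolvable H → Nat.card H = n →
      (Nat.card N).Coprime (Nat.card H) → Nat.card K = Nat.card H → N ⊔ H = N ⊔ K →
      ∃ x ∈ N, MulAut.conj x • H = K := by
  induction n using Nat.strongRecOn with | ind n ih => ?_
  intro N H K hH hK hsolv hn hcop hcard heq
  rcases eq_or_ne H ⊥ with rfl | hbot
  · refine ⟨1, one_mem _, ?_⟩
    rw [Subgroup.card_bot] at hcard
    rw [Subgroup.card_eq_one.mp hcard]
    simp
  have : Nontrivial H := (Subgroup.nontrivial_iff_ne_bot H).mpr hbot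
  obtain ⟨M, hMn, hp⟩ := exists_normal_index_prime H
  set p := M.index with hpdef
  have : Fact p.Prime := ⟨hp⟩
  set H₀ : Subgroup G := M.map H.subtype with hH₀
  have hH₀H : H₀ ≤ H := Subgroup.map_subtype_le M
  have hH₀n : H ≤ Subgroup.normalizer (H₀ : Set G) := by
    have : (H₀.subgroupOf H).Normal := by
      rw [hH₀, Subgroup.subgroupOf, Subgroup.comap_map_eq_self_of_injective H.subtype_injective]; exact hMn
    exact (Subgroup.normal_subgroupOf_iff_le_normalizer hH₀H).mp this
  have hcM : Nat.card H₀ * p = Nat.card H := by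
    rw [hH₀, Subgroup.card_map_of_injective H.subtype_injective, hpdef, Subgroup.card_mul_index]
  have hlt : Nat.card H₀ < n := by
    rw [← hn, ← hcM]; exact lt_mul_of_one_lt_right Nat.card_pos hp.one_lt
  set K₀ := K ⊓ (N ⊔ H₀) with hK₀
  have hsup : N ⊔ K₀ = N ⊔ H₀ := by
    rw [hK₀, ← sup_inf_eq_sup_inf_of_le hK le_sup_left, ← heq]
    exact inf_eq_right.mpr (sup_le_sup le_rfl hH₀H)
  have hK₀K : K₀ ≤ K := inf_le_left
  have hdisj : ∀ L : Subgroup G, L ≤ H ∨ L ≤ K → N ⊓ L = ⊥ := by
    rintro L (hL | hL)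
    · exact inf_eq_bot_of_coprime (hcop.coprime_dvd_right (Subgroup.card_dvd_of_le hL))
    · exact inf_eq_bot_of_coprime ((hcard ▸ hcop).coprime_dvd_right (Subgroup.card_dvd_of_le hL))
  have hcK₀ : Nat.card K₀ = Nat.card H₀ := by
    have h1 := card_sup_eq (hK₀K.trans hK) (hdisj _ (Or.inr hK₀K))
    rw [hsup, card_sup_eq (hH₀H.trans hH) (hdisj _ (Or.inl hH₀H))] at h1
    exact (Nat.eq_of_mul_eq_mul_left Nat.card_pos h1).symm
  obtain ⟨x, hx, hxH₀⟩ := ih _ hlt N H₀ K₀ (hH₀H.trans hH) (hK₀K.trans hK)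
    (isSolvable_of_le hH₀H) rfl (hcop.coprime_dvd_right (Subgroup.card_dvd_of_le hH₀H)) hcK₀
    hsup.symm
  -- replace `H` by its conjugate and reduce to the common normal subgroup `P = K₀`
  set H' := MulAut.conj x • H with hH'
  set P := K₀ with hP
  have hxn : x ∈ Subgroup.normalizer (N : Set G) := Subgroup.le_normalizer hx
  have hH'N : H' ≤ Subgroup.normalizer (N : Set G) := conj_smul_le_of_mem hxn hH
  have hH'sup : N ⊔ H' = N ⊔ K := by
    rw [← heq, hH']
    conv_lhs => rw [← conj_smul_eq_self hxn, ← Subgroup.smul_sup]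
    exact conj_smul_eq_self (Subgroup.le_normalizer (Subgroup.mem_sup_left hx))
  have hH'P : H' ≤ Subgroup.normalizer (P : Set G) := by
    intro y hy
    rw [hH', mem_conj_smul] at hy
    have h1 := conj_smul_eq_self (hH₀n hy)
    rw [mem_normalizer_iff_conj_smul_eq, ← hxH₀]
    conv_rhs => rw [← h1]
    simp only [conj_smul_conj_smul]
    congr 2
    group
  have hKP : K ≤ Subgroup.normalizer (P : Set G) := by
    refine le_trans ?_ (Subgroup.inf_normalizer_le_normalizer_inf)
    refine le_inf Subgroup.le_normalizer ?_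
    have h1 : N ⊔ H ≤ Subgroup.normalizer ((N ⊔ H₀ : Subgroup G) : Set G) := by
      refine sup_le (le_sup_left.trans Subgroup.le_normalizer) ?_
      exact (le_inf hH hH₀n).trans (Subgroup.normalizer_inf_normalizer_le_normalizer_sup N H₀)
    exact le_sup_right.trans (heq ▸ h1)
  set C := N ⊓ Subgroup.normalizer (P : Set G) with hC
  have hCeq : C ⊔ H' = C ⊔ K := by
    rw [hC, ← sup_inf_eq_of_le hH'N hH'P, ← sup_inf_eq_of_le hK hKP, hH'sup]
  have hCH' : H' ≤ Subgroup.normalizer (C : Set G) :=
    (le_inf hH'N (hH'P.trans Subgroup.le_normalizer)).trans Subgroup.inf_normalizer_le_normalizer_inf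
  have hcardH' : Nat.card H' = Nat.card H := card_conj_smul x H
  have hcopC : (Nat.card C).Coprime (Nat.card H') := by
    rw [hcardH']; exact hcop.coprime_dvd_left (Subgroup.card_dvd_of_le inf_le_left)
  set L := C ⊔ H' with hL
  have hcL : Nat.card L = Nat.card C * Nat.card H' :=
    card_sup_eq hCH' (inf_eq_bot_of_coprime hcopC)
  have hPH' : P ≤ H' := by
    rw [← hxH₀, hH', Subgroup.pointwise_smul_le_pointwise_smul_iff]; exact hH₀H
  have hfac : (Nat.card L).factorization p = (Nat.card H').factorization p := by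
    rw [hcL, Nat.factorization_mul Nat.card_pos.ne' Nat.card_pos.ne', Finsupp.add_apply,
      Nat.factorization_eq_zero_of_not_dvd, zero_add]
    intro hdvd
    refine Nat.not_coprime_of_dvd_of_dvd hp.one_lt hdvd ?_ hcopC
    rw [hcardH', ← hcM]; exact dvd_mul_left _ _
  have key : ∀ R : Subgroup G, P ≤ R → R ≤ L → Nat.card R = Nat.card H' →
      ∃ S : Sylow p L, (S : Subgroup L).map L.subtype ≤ R ∧
        R ≤ (S : Subgroup L).map L.subtype ⊔ P := by
    intro R hPR hRL hcR
    let S₀ : Sylow p R := default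
    set SG : Subgroup G := (S₀ : Subgroup R).map R.subtype with hSG
    have hSGR : SG ≤ R := Subgroup.map_subtype_le _
    have hc1 : Nat.card (SG.subgroupOf L) = p ^ (Nat.card L).factorization p := by
      rw [Nat.card_congr (Subgroup.subgroupOfEquivOfLe (hSGR.trans hRL)).toEquiv, hSG,
        Subgroup.card_map_of_injective R.subtype_injective, S₀.card_eq_multiplicity, hfac, hcR]
    refine ⟨Sylow.ofCard _ hc1, ?_, ?_⟩
    · rw [Sylow.coe_ofCard, Subgroup.subgroupOf_map_subtype]
      exact inf_le_left.trans hSGR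
    · rw [Sylow.coe_ofCard, Subgroup.subgroupOf_map_subtype, inf_eq_left.mpr (hSGR.trans hRL)]
      have hle : SG ⊔ P ≤ R := sup_le hSGR hPR
      refine le_of_eq (Subgroup.eq_of_le_of_card_ge hle ?_).symm
      have h2 : Nat.card SG ∣ Nat.card ↥(SG ⊔ P) := Subgroup.card_dvd_of_le le_sup_left
      have h3 : Nat.card P ∣ Nat.card ↥(SG ⊔ P) := Subgroup.card_dvd_of_le le_sup_right
      obtain ⟨t, ht⟩ := Subgroup.card_dvd_of_le hle
      rw [hSG, Subgroup.card_map_of_injective R.subtype_injective, S₀.card_eq_multiplicity] at h2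
      rw [hcK₀] at h3
      have hcR' : Nat.card R = Nat.card H₀ * p := by rw [hcR, hcardH', hcM]
      have ht1 : t ∣ p := by
        obtain ⟨u, hu⟩ := h3
        rw [hu, hcR', mul_assoc] at ht
        exact ⟨u, by rw [mul_comm t]; exact Nat.eq_of_mul_eq_mul_left Nat.card_pos ht⟩
      rcases (Nat.dvd_prime hp).mp ht1 with rfl | rfl
      · simp [ht]
      · exfalso
        obtain ⟨u, hu⟩ := h2
        rw [hu, mul_right_comm, ← pow_succ] at ht
        exact Nat.pow_succ_factorization_not_dvd Nat.card_pos.ne' hp ⟨u, ht⟩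
  obtain ⟨S, hS1, hS2⟩ := key H' hPH' le_sup_right rfl
  obtain ⟨T, hT1, hT2⟩ := key K hK₀K (hCeq ▸ le_sup_right) (by rw [hcardH', hcard])
  obtain ⟨g, hg⟩ := MulAction.exists_smul_eq L S T
  obtain ⟨c, hc, h', hh', hgeq⟩ := exists_mul_of_mem_sup hCH' g.2
  refine ⟨c * x, N.mul_mem (Subgroup.mem_inf.mp hc).1 hx, ?_⟩
  rw [← conj_smul_conj_smul, ← hH']
  have hTle : (T : Subgroup L).map L.subtype ≤ MulAut.conj c • H' := by
    rw [← hg, Sylow.coe_subgroup_smul]
    rintro _ ⟨y, hy, rfl⟩
    rw [SetLike.mem_coe, mem_conj_smul] at hy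
    rw [mem_conj_smul]
    have h2 := hS1 (Subgroup.mem_map_of_mem L.subtype hy)
    simp only [map_mul, map_inv, Subgroup.coe_subtype, ← hgeq] at h2 ⊢
    have h3 := H'.mul_mem (H'.mul_mem hh' h2) (H'.inv_mem hh')
    simpa [mul_assoc] using h3
  have hPle : P ≤ MulAut.conj c • H' := by
    rw [← conj_smul_eq_self (Subgroup.mem_inf.mp hc).2, Subgroup.pointwise_smul_le_pointwise_smul_iff]
    exact hPH'
  refine (Subgroup.eq_of_le_of_card_ge (hT2.trans (sup_le hTle hPle)) ?_).symm
  rw [card_conj_smul, hcardH', hcard]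

/-- **Schur–Zassenhaus, conjugacy**: subgroups `H`, `K` normalising `N`, of the same order prime
to that of `N` and with `N H = N K`, are conjugate by an element of `N` if `N` or `H` is
solvable. -/
theorem exists_conj_eq_of_sup_eq [Finite G] {N H K : Subgroup G}
    (hH : H ≤ Subgroup.normalizer (N : Set G)) (hK : K ≤ Subgroup.normalizer (N : Set G))
    (hcop : (Nat.card N).Coprime (Nat.card H)) (hcard : Nat.card K = Nat.card H)
    (heq : N ⊔ H = N ⊔ K) (hsolv : Group.IsSolvable N ∨ Group.IsSolvable H) :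
    ∃ n ∈ N, MulAut.conj n • H = K := by
  rcases hsolv with hN | hs
  · set L := Subgroup.normalizer (N : Set G) with hL
    have hNL : N ≤ L := Subgroup.le_normalizer
    have cN : Nat.card (N.subgroupOf L) = Nat.card N :=
      Nat.card_congr (Subgroup.subgroupOfEquivOfLe hNL).toEquiv
    have cH : Nat.card (H.subgroupOf L) = Nat.card H :=
      Nat.card_congr (Subgroup.subgroupOfEquivOfLe hH).toEquiv
    have cK : Nat.card (K.subgroupOf L) = Nat.card K :=
      Nat.card_congr (Subgroup.subgroupOfEquivOfLe hK).toEquiv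
    obtain ⟨a, ha, hconj⟩ := sup_eq_solvable_left _ (N.subgroupOf L) (H.subgroupOf L)
      (K.subgroupOf L) ((Subgroup.normal_subgroupOf_iff_le_normalizer hNL).mpr le_rfl)
      (Group.isSolvable_of_isSolvable_injective (f := (Subgroup.subgroupOfEquivOfLe hNL).toMonoidHom)
        (MulEquiv.injective _))
      rfl (by rwa [cN, cH]) (by rw [cK, cH, hcard])
      (by rw [← Subgroup.subgroupOf_sup hNL hH, ← Subgroup.subgroupOf_sup hNL hK, heq])
    refine ⟨(a : G), ha, ?_⟩
    rw [Subgroup.conj_smul_subgroupOf hH, Subgroup.subgroupOf_inj] at hconj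
    have h1 : MulAut.conj (a : G) • H ≤ L := conj_smul_le_of_mem a.2 hH
    simpa [inf_eq_left.mpr h1, inf_eq_left.mpr hK, Subgroup.smul_def] using hconj
  · exact sup_eq_solvable_right _ N H K hH hK hs rfl hcop hcard heq

/-- Complements of a normal Hall subgroup `N` are conjugate under `N` if `N` or `G ⧸ N` is
solvable. -/
theorem exists_conj_eq_of_isComplement' [Finite G] {N H K : Subgroup G} [N.Normal]
    (hN : (Nat.card N).Coprime N.index)
    (hsolv : Group.IsSolvable N ∨ Group.IsSolvable (G ⧸ N))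
    (hH : Subgroup.IsComplement' N H) (hK : Subgroup.IsComplement' N K) :
    ∃ n ∈ N, MulAut.conj n • H = K := by
  refine exists_conj_eq_of_sup_eq Subgroup.le_normalizer_of_normal
    Subgroup.le_normalizer_of_normal (by rwa [← hH.symm.index_eq_card])
    (by rw [← hH.symm.index_eq_card, ← hK.symm.index_eq_card])
    (by rw [hH.sup_eq_top, hK.sup_eq_top]) (hsolv.imp_right ?_)
  intro h
  exact Group.isSolvable_of_isSolvable_injective
    (f := (Subgroup.IsComplement'.QuotientMulEquiv hH.symm).symm.toMonoidHom)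
    (MulEquiv.injective _)

end CfsgLib.Coprime
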