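import Mathlib.GroupTheory.Nilpotent
import Mathlib.GroupTheory.Frattini
import Cfsg.Agent.Coprime.SchurZassenhaus

/-!
Coprime action of a subgroup `A` on a subgroup `G` that it normalises, in an ambient finite group `X`.

* `exists_fixed_mem_coset`: an `A`-stable coset of an `A`-invariant subgroup contains an element
  centralised by `A`.
* `exists_fixed_of_transitive`, `exists_conj_fixed_of_transitive`: Glauberman's lemma.
* `map_inf_centralizer`: `C_G(A)` maps onto the centraliser of the image.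
* `exists_invariant_sylow`, `exists_invariant_sylow_ge`, `exists_conj_eq_of_invariant`.
* `commutator_sup_centralizer`: `G = [G,A] C_G(A)`;
  `commutator_commutator_eq`: `[G,A,A] = [G,A]` (no solvability needed).
* `le_centralizer_of_commutator_commutator_eq_bot`, `le_centralizer_of_commutator_le_frattini`.
-/

open Pointwise
open scoped commutatorElement

set_option linter.style.haveILetI false

namespace CfsgLib.Coprime

variable {X : Type*} [Group X] {G A : Subgroup X}

theorem conj_commutator_mem (hAG : A ≤ Subgroup.normalizer (G : Set X)) {g a : X} (hg : g ∈ G)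
    (ha : a ∈ A) : g⁻¹ * (a * g * a⁻¹) ∈ G :=
  G.mul_mem (G.inv_mem hg) ((Subgroup.mem_normalizer_iff.mp (hAG ha) g).mp hg)

theorem commutator_le_of_le_normalizer (hAG : A ≤ Subgroup.normalizer (G : Set X)) :
    ⁅G, A⁆ ≤ G :=
  Subgroup.le_normalizer_iff_commutator_le_left.mp hAG

theorem sup_le_normalizer_commutator (G A : Subgroup X) :
    G ⊔ A ≤ Subgroup.normalizer (⁅G, A⁆ : Subgroup X) :=
  sup_le (Subgroup.normalizer_commutator_ge_left G A) (Subgroup.normalizer_commutator_ge_right G A)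

/-- An element normalising `A` whose commutators with `A` lie in a subgroup meeting `A`
trivially centralises `A`. -/
theorem mem_centralizer_of_normalizer {c : X} (hc : c ∈ Subgroup.normalizer (A : Set X))
    {N : Subgroup X} (hdisj : N ⊓ A = ⊥) (h : ∀ a ∈ A, c * a * c⁻¹ * a⁻¹ ∈ N) :
    c ∈ Subgroup.centralizer (A : Set X) := by
  rw [Subgroup.mem_centralizer_iff]
  intro a ha
  have h1 : c * a * c⁻¹ * a⁻¹ ∈ N ⊓ A := Subgroup.mem_inf.mpr
    ⟨h a ha, A.mul_mem ((Subgroup.mem_normalizer_iff.mp hc a).mp ha) (A.inv_mem ha)⟩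
  rw [hdisj, Subgroup.mem_bot, mul_inv_eq_one] at h1
  exact (mul_inv_eq_iff_eq_mul.mp h1).symm

variable [Finite X]

/-- A coset `k N` of an `A`-invariant subgroup `N` that is mapped to itself by `A` contains a
fixed point of `A`, if the orders of `N` and `A` are coprime and one of them is solvable. -/
theorem exists_fixed_mem_coset {N : Subgroup X} (hAN : A ≤ Subgroup.normalizer (N : Set X))
    (hcop : (Nat.card A).Coprime (Nat.card N)) (hsolv : Group.IsSolvable A ∨ Group.IsSolvable N)
    {k : X} (h : ∀ a ∈ A, k⁻¹ * (a * k * a⁻¹) ∈ N) :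
    ∃ c ∈ Subgroup.centralizer (A : Set X), k⁻¹ * c ∈ N := by
  set A' := MulAut.conj k⁻¹ • A with hA'
  have hA'le : A' ≤ N ⊔ A := by
    intro x hx
    rw [hA', mem_conj_smul, inv_inv] at hx
    have h1 := Subgroup.mul_mem_sup (h _ hx) hx
    simpa [mul_assoc] using h1
  have hNA : N ⊔ A ≤ Subgroup.normalizer (N : Set X) := sup_le Subgroup.le_normalizer hAN
  have hcA : Nat.card A' = Nat.card A := card_conj_smul _ _
  have heq : N ⊔ A' = N ⊔ A := by
    refine Subgroup.eq_of_le_of_card_ge (sup_le le_sup_left hA'le) (le_of_eq ?_)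
    rw [card_sup_eq hAN (inf_eq_bot_of_coprime hcop.symm),
      card_sup_eq (hA'le.trans hNA) (inf_eq_bot_of_coprime (hcA ▸ hcop).symm), hcA]
  obtain ⟨n, hn, hconj⟩ := exists_conj_eq_of_sup_eq hAN (hA'le.trans hNA) hcop.symm hcA heq.symm
    hsolv.symm
  refine ⟨k * n, ?_, by simpa using hn⟩
  have hnorm : k * n ∈ Subgroup.normalizer (A : Set X) := by
    rw [mem_normalizer_iff_conj_smul_eq, ← conj_smul_conj_smul, hconj, hA', conj_smul_conj_smul,
      mul_inv_cancel, conj_one_smul]
  rw [← inv_inv (k * n)]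
  refine inv_mem (mem_centralizer_of_normalizer (inv_mem hnorm)
    (inf_eq_bot_of_coprime hcop.symm) fun a ha => ?_)
  have h1 : a * n * a⁻¹ ∈ N := (Subgroup.mem_normalizer_iff.mp (hAN ha) n).mp hn
  have h2 := N.mul_mem (N.mul_mem (N.inv_mem hn) (h a ha)) h1
  simpa [mul_assoc] using h2

/-- **Glauberman's lemma**, existence: if `A` and `G` act on a nonempty set on which `G` is
transitive, then `A` has a fixed point. -/
theorem exists_fixed_of_transitive (hAG : A ≤ Subgroup.normalizer (G : Set X))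
    (hcop : (Nat.card A).Coprime (Nat.card G)) (hsolv : Group.IsSolvable A ∨ Group.IsSolvable G)
    {Ω : Type*} [MulAction X Ω] (s : Set Ω) (hne : s.Nonempty)
    (hAs : ∀ a ∈ A, ∀ x ∈ s, a • x ∈ s) (hGs : ∀ g ∈ G, ∀ x ∈ s, g • x ∈ s)
    (htrans : ∀ x ∈ s, ∀ y ∈ s, ∃ g ∈ G, g • x = y) :
    ∃ x ∈ s, ∀ a ∈ A, a • x = x := by
  obtain ⟨ω, hω⟩ := hne
  set L := G ⊔ A with hL
  set S := L ⊓ MulAction.stabilizer X ω with hS
  have hdisj : G ⊓ A = ⊥ := inf_eq_bot_of_coprime hcop.symm
  have hLG : L ≤ Subgroup.normalizer (G : Set X) := sup_le Subgroup.le_normalizer hAG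
  have : (G.subgroupOf L).Normal :=
    (Subgroup.normal_subgroupOf_iff_le_normalizer le_sup_left).mpr hLG
  let ψA : A →* L ⧸ G.subgroupOf L :=
    (QuotientGroup.mk' _).comp (Subgroup.inclusion le_sup_right)
  let ψS : S →* L ⧸ G.subgroupOf L :=
    (QuotientGroup.mk' _).comp (Subgroup.inclusion inf_le_left)
  have hbij : Function.Bijective ψA := by
    constructor
    · rw [← MonoidHom.ker_eq_bot_iff, eq_bot_iff]
      intro a ha
      rw [MonoidHom.mem_ker] at ha
      have h1 : (a : X) ∈ G ⊓ A := Subgroup.mem_inf.mpr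
        ⟨(QuotientGroup.eq_one_iff (N := G.subgroupOf L) _).mp ha, a.2⟩
      rw [hdisj, Subgroup.mem_bot] at h1
      exact Subgroup.mem_bot.mpr (Subtype.ext h1)
    · intro q
      induction q using QuotientGroup.induction_on with | H x => ?_
      obtain ⟨g, hg, a, ha, hga⟩ := exists_mul_of_mem_sup hAG x.2
      refine ⟨⟨a, ha⟩, (QuotientGroup.eq).mpr ?_⟩
      show a⁻¹ * (x : X) ∈ G
      rw [← hga, ← mul_assoc]
      have := (Subgroup.mem_normalizer_iff.mp (inv_mem (hAG ha)) g).mp hg
      simpa using this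
  have hsurj : Function.Surjective ψS := by
    intro q
    obtain ⟨⟨a, ha⟩, rfl⟩ := hbij.2 q
    obtain ⟨g, hg, hgω⟩ := htrans ω hω (a • ω) (hAs a ha ω hω)
    have hmem : g⁻¹ * a ∈ S := Subgroup.mem_inf.mpr
      ⟨Subgroup.mul_mem_sup (G.inv_mem hg) ha, by
        rw [MulAction.mem_stabilizer_iff, mul_smul, inv_smul_eq_iff, hgω]⟩
    refine ⟨⟨_, hmem⟩, (QuotientGroup.eq).mpr ?_⟩
    show (g⁻¹ * a)⁻¹ * a ∈ G
    have := (Subgroup.mem_normalizer_iff.mp (inv_mem (hAG ha)) g).mp hg
    simpa [mul_assoc] using this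
  let π : S →* A := (MulEquiv.ofBijective ψA hbij).symm.toMonoidHom.comp ψS
  have hπ : Function.Surjective π := (MulEquiv.ofBijective ψA hbij).symm.surjective.comp hsurj
  have hker : π.ker = G.subgroupOf S := by
    have h0 : π.ker = ψS.ker :=
      MonoidHom.ker_mulEquiv_comp ψS (MulEquiv.ofBijective ψA hbij).symm
    rw [h0]
    ext x
    rw [MonoidHom.mem_ker]
    exact QuotientGroup.eq_one_iff (N := G.subgroupOf L) _
  have hidx : π.ker.index = Nat.card A := by
    rw [Subgroup.index_eq_card,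
      Nat.card_congr (QuotientGroup.quotientKerEquivOfSurjective π hπ).toEquiv]
  have hkdvd : Nat.card π.ker ∣ Nat.card G := by
    rw [hker, ← Subgroup.inf_subgroupOf_right G S,
      Nat.card_congr (Subgroup.subgroupOfEquivOfLe inf_le_right).toEquiv]
    exact Subgroup.card_dvd_of_le inf_le_left
  obtain ⟨B, hB⟩ := Subgroup.exists_right_complement'_of_coprime
    (show (Nat.card π.ker).Coprime π.ker.index by
      rw [hidx]; exact hcop.symm.coprime_dvd_left hkdvd)
  set B' := B.map S.subtype with hB'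
  have hB'S : B' ≤ S := Subgroup.map_subtype_le B
  have hB'L : B' ≤ L := hB'S.trans inf_le_left
  have hcB : Nat.card B' = Nat.card A := by
    rw [hB', Subgroup.card_map_of_injective S.subtype_injective, ← hidx, hB.symm.index_eq_card]
  have heq : G ⊔ B' = G ⊔ A := by
    refine Subgroup.eq_of_le_of_card_ge (sup_le le_sup_left hB'L) (le_of_eq ?_)
    rw [card_sup_eq hAG hdisj,
      card_sup_eq (hB'L.trans hLG) (inf_eq_bot_of_coprime (hcB ▸ hcop).symm), hcB]
  obtain ⟨g, hg, hconj⟩ := exists_conj_eq_of_sup_eq (hB'L.trans hLG) hAG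
    (hcB ▸ hcop.symm) hcB.symm heq (hsolv.symm.imp_right fun hA => by
      haveI := hA
      have hinj : Function.Injective (π.comp B.subtype) := by
        rw [← MonoidHom.ker_eq_bot_iff, eq_bot_iff]
        intro b hb
        exact Subgroup.mem_bot.mpr (Subtype.ext
          (Subgroup.disjoint_def.mp hB.disjoint (x := (b : S)) hb b.2))
      have : Group.IsSolvable B := Group.isSolvable_of_isSolvable_injective hinj
      exact Group.isSolvable_of_surjective
        (f := (B.equivMapOfInjective S.subtype S.subtype_injective).toMonoidHom)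
        (MulEquiv.surjective _))
  refine ⟨g • ω, hGs g hg ω hω, fun a ha => ?_⟩
  rw [← hconj, mem_conj_smul] at ha
  have := (Subgroup.mem_inf.mp (hB'S ha)).2
  rw [MulAction.mem_stabilizer_iff, mul_smul, mul_smul, inv_smul_eq_iff] at this
  exact this

/-- **Glauberman's lemma**, conjugacy: two fixed points of `A` on which `G` is transitive differ
by an element of `C_G(A)`. -/
theorem exists_conj_fixed_of_transitive (hAG : A ≤ Subgroup.normalizer (G : Set X))
    (hcop : (Nat.card A).Coprime (Nat.card G)) (hsolv : Group.IsSolvable A ∨ Group.IsSolvable G)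
    {Ω : Type*} [MulAction X Ω] {x y : Ω} (hx : ∀ a ∈ A, a • x = x) (hy : ∀ a ∈ A, a • y = y)
    {g : X} (hg : g ∈ G) (hgxy : g • x = y) :
    ∃ c ∈ G ⊓ Subgroup.centralizer (A : Set X), c • x = y := by
  set N := G ⊓ MulAction.stabilizer X x with hN
  have hAst : A ≤ MulAction.stabilizer X x := fun a ha => hx a ha
  have hAN : A ≤ Subgroup.normalizer (N : Set X) :=
    (le_inf hAG (hAst.trans Subgroup.le_normalizer)).trans Subgroup.inf_normalizer_le_normalizer_inf
  obtain ⟨c, hc, hcN⟩ := exists_fixed_mem_coset hAN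
    (hcop.coprime_dvd_right (Subgroup.card_dvd_of_le inf_le_left))
    (hsolv.imp_right fun h => by haveI := h; exact isSolvable_of_le (inf_le_left : N ≤ G))
    (k := g) (fun a ha => by
      refine Subgroup.mem_inf.mpr ⟨conj_commutator_mem hAG hg ha, ?_⟩
      rw [MulAction.mem_stabilizer_iff, mul_smul, mul_smul, mul_smul, hx _ (A.inv_mem ha), hgxy,
        hy _ ha, ← hgxy, inv_smul_smul])
  refine ⟨c, Subgroup.mem_inf.mpr ⟨?_, hc⟩, ?_⟩
  · have := G.mul_mem hg (Subgroup.mem_inf.mp hcN).1
    simpa using this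
  · have := (Subgroup.mem_inf.mp hcN).2
    rw [MulAction.mem_stabilizer_iff, mul_smul, inv_smul_eq_iff, hgxy] at this
    exact this

/-- If all conjugates of `P` under `A` are conjugates under `G`, then some `G`-conjugate of `P`
is normalised by `A`. -/
theorem exists_invariant_conj (hAG : A ≤ Subgroup.normalizer (G : Set X))
    (hcop : (Nat.card A).Coprime (Nat.card G)) (hsolv : Group.IsSolvable A ∨ Group.IsSolvable G)
    (P : Subgroup X) (h : ∀ a ∈ A, ∃ g ∈ G, MulAut.conj a • P = MulAut.conj g • P) :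
    ∃ g ∈ G, A ≤ Subgroup.normalizer ((MulAut.conj g • P : Subgroup X) : Set X) := by
  letI : MulAction X (Subgroup X) := MulAction.compHom _ (MulAut.conj : X →* MulAut X)
  obtain ⟨Q, ⟨g, hg, rfl⟩, hfix⟩ := exists_fixed_of_transitive hAG hcop hsolv
    (Ω := Subgroup X) {Q | ∃ g ∈ G, Q = MulAut.conj g • P} ⟨P, 1, one_mem _, by simp⟩
    (by
      rintro a ha _ ⟨g, hg, rfl⟩
      obtain ⟨g', hg', hg''⟩ := h a ha
      refine ⟨a * g * a⁻¹ * g', G.mul_mem ((Subgroup.mem_normalizer_iff.mp (hAG ha) g).mp hg) hg',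
        ?_⟩
      show MulAut.conj a • MulAut.conj g • P = _
      rw [← conj_smul_conj_smul (a * g * a⁻¹), ← hg'']
      simp only [conj_smul_conj_smul, mul_assoc, inv_mul_cancel, mul_one])
    (by
      rintro g' hg' _ ⟨g, hg, rfl⟩
      exact ⟨g' * g, G.mul_mem hg' hg, conj_smul_conj_smul g' g P⟩)
    (by
      rintro _ ⟨g, hg, rfl⟩ _ ⟨g', hg', rfl⟩
      refine ⟨g' * g⁻¹, G.mul_mem hg' (G.inv_mem hg), ?_⟩
      show MulAut.conj (g' * g⁻¹) • MulAut.conj g • P = _
      rw [conj_smul_conj_smul, inv_mul_cancel_right])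
  exact ⟨g, hg, le_normalizer_of_eq_self hfix⟩

/-- Two `G`-conjugate subgroups normalised by `A` are conjugate under `C_G(A)`. -/
theorem exists_conj_eq_of_invariant (hAG : A ≤ Subgroup.normalizer (G : Set X))
    (hcop : (Nat.card A).Coprime (Nat.card G)) (hsolv : Group.IsSolvable A ∨ Group.IsSolvable G)
    {P Q : Subgroup X} (hP : A ≤ Subgroup.normalizer (P : Set X))
    (hQ : A ≤ Subgroup.normalizer (Q : Set X)) {g : X} (hg : g ∈ G)
    (hgPQ : MulAut.conj g • P = Q) :
    ∃ c ∈ G ⊓ Subgroup.centralizer (A : Set X), MulAut.conj c • P = Q := by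
  letI : MulAction X (Subgroup X) := MulAction.compHom _ (MulAut.conj : X →* MulAut X)
  exact exists_conj_fixed_of_transitive hAG hcop hsolv (Ω := Subgroup X)
    (fun a ha => conj_smul_eq_self (hP ha)) (fun a ha => conj_smul_eq_self (hQ ha)) hg hgPQ

/-- Fixed points pass to homomorphic images under coprime action. -/
theorem map_inf_centralizer {Y : Type*} [Group Y] (f : X →* Y)
    (hAG : A ≤ Subgroup.normalizer (G : Set X))
    (hcop : (Nat.card A).Coprime (Nat.card ↥(G ⊓ f.ker)))
    (hsolv : Group.IsSolvable A ∨ Group.IsSolvable ↥(G ⊓ f.ker)) :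
    (G ⊓ Subgroup.centralizer (A : Set X)).map f
      = G.map f ⊓ Subgroup.centralizer ((A.map f : Subgroup Y) : Set Y) := by
  refine le_antisymm (le_inf (Subgroup.map_mono inf_le_left) ?_) ?_
  · rintro _ ⟨c, hc, rfl⟩
    rw [Subgroup.mem_centralizer_iff]
    rintro _ ⟨a, ha, rfl⟩
    rw [← map_mul, ← map_mul, Subgroup.mem_centralizer_iff.mp (Subgroup.mem_inf.mp hc).2 a ha]
  · rintro _ ⟨⟨k, hk, rfl⟩, hfix⟩
    have hker : A ≤ Subgroup.normalizer (f.ker : Set X) := Subgroup.le_normalizer_of_normal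
    obtain ⟨c, hc, hcN⟩ := exists_fixed_mem_coset
      ((le_inf hAG hker).trans Subgroup.inf_normalizer_le_normalizer_inf) hcop hsolv
      (k := k) (fun a ha => by
        refine Subgroup.mem_inf.mpr ⟨conj_commutator_mem hAG hk ha, ?_⟩
        rw [MonoidHom.mem_ker, map_mul, map_mul, map_mul,
          Subgroup.mem_centralizer_iff.mp hfix _ (Subgroup.mem_map_of_mem f ha), map_inv, map_inv]
        group)
    refine ⟨c, Subgroup.mem_inf.mpr ⟨?_, hc⟩, ?_⟩
    · have := G.mul_mem hk (Subgroup.mem_inf.mp hcN).1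
      simpa using this
    · have := MonoidHom.mem_ker.mp (Subgroup.mem_inf.mp hcN).2
      rw [map_mul, map_inv, inv_mul_eq_one] at this
      exact this.symm

omit [Finite X] in
theorem map_subtype_conj_smul (g : G) (P : Subgroup G) :
    (MulAut.conj g • P).map G.subtype = MulAut.conj (g : X) • P.map G.subtype := by
  ext x
  constructor
  · rintro ⟨y, hy, rfl⟩
    exact mem_conj_smul.mpr ⟨g⁻¹ * y * g, mem_conj_smul.mp hy, by simp⟩
  · intro hx
    obtain ⟨y, hy, hyx⟩ := mem_conj_smul.mp hx
    refine ⟨g * y * g⁻¹, conj_mem_conj_smul hy, ?_⟩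
    simp only [Subgroup.coe_subtype, Subgroup.coe_mul, Subgroup.coe_inv] at hyx ⊢
    rw [hyx]; group

/-- Sylow subgroups of `G` as subgroups of `X`: two of them are `G`-conjugate. -/
theorem exists_conj_map_sylow {p : ℕ} [Fact p.Prime] (P Q : Sylow p G) :
    ∃ g ∈ G, MulAut.conj g • (P : Subgroup G).map G.subtype = (Q : Subgroup G).map G.subtype := by
  obtain ⟨g, rfl⟩ := MulAction.exists_smul_eq G P Q
  refine ⟨g, g.2, ?_⟩
  rw [Sylow.coe_subgroup_smul, map_subtype_conj_smul]

/-- There is an `A`-invariant Sylow `p`-subgroup. -/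
theorem exists_invariant_sylow (hAG : A ≤ Subgroup.normalizer (G : Set X))
    (hcop : (Nat.card A).Coprime (Nat.card G)) (hsolv : Group.IsSolvable A ∨ Group.IsSolvable G)
    (p : ℕ) [Fact p.Prime] :
    ∃ P : Sylow p G, A ≤ Subgroup.normalizer (((P : Subgroup G).map G.subtype : Subgroup X) : Set X)
      := by
  let P : Sylow p G := default
  set P' := (P : Subgroup G).map G.subtype with hP'
  obtain ⟨g, hg, hA⟩ := exists_invariant_conj hAG hcop hsolv P' (by
    intro a ha
    have hle : MulAut.conj a • P' ≤ G := by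
      conv_rhs => rw [← conj_smul_eq_self (hAG ha)]
      exact Subgroup.pointwise_smul_le_pointwise_smul_iff.mpr (Subgroup.map_subtype_le _)
    have hc : Nat.card ((MulAut.conj a • P').subgroupOf G) = p ^ (Nat.card G).factorization p := by
      rw [Nat.card_congr (Subgroup.subgroupOfEquivOfLe hle).toEquiv, card_conj_smul, hP',
        Subgroup.card_map_of_injective G.subtype_injective, P.card_eq_multiplicity]
    obtain ⟨g, hg, hgeq⟩ := exists_conj_map_sylow P (Sylow.ofCard _ hc)
    refine ⟨g, hg, ?_⟩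
    rw [hgeq, Sylow.coe_ofCard, Subgroup.subgroupOf_map_subtype, inf_eq_left.mpr hle])
  refine ⟨(⟨g, hg⟩ : G) • P, ?_⟩
  rwa [Sylow.coe_subgroup_smul, map_subtype_conj_smul]

/-- An `A`-invariant `p`-subgroup lies in an `A`-invariant Sylow `p`-subgroup. -/
theorem exists_invariant_sylow_ge (hAG : A ≤ Subgroup.normalizer (G : Set X))
    (hcop : (Nat.card A).Coprime (Nat.card G)) (hsolv : Group.IsSolvable A ∨ Group.IsSolvable G)
    {p : ℕ} [Fact p.Prime] {U : Subgroup X} (hUG : U ≤ G) (hU : IsPGroup p U)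
    (hUA : A ≤ Subgroup.normalizer (U : Set X)) :
    ∃ P : Sylow p G, U ≤ (P : Subgroup G).map G.subtype ∧
      A ≤ Subgroup.normalizer (((P : Subgroup G).map G.subtype : Subgroup X) : Set X) := by
  obtain ⟨V, hUV, hV⟩ := (Set.toFinite {V : Subgroup X | V ≤ G ∧ IsPGroup p V ∧
    A ≤ Subgroup.normalizer (V : Set X)}).exists_le_maximal (a := U) ⟨hUG, hU, hUA⟩
  obtain ⟨hVG, hVp, hVA⟩ := hV.1
  set K := G ⊓ Subgroup.normalizer (V : Set X) with hK
  have hAK : A ≤ Subgroup.normalizer (K : Set X) :=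
    (le_inf hAG (hVA.trans Subgroup.le_normalizer)).trans Subgroup.inf_normalizer_le_normalizer_inf
  obtain ⟨P, hP⟩ := exists_invariant_sylow hAK
    (hcop.coprime_dvd_right (Subgroup.card_dvd_of_le inf_le_left))
    (hsolv.imp_right fun h => by haveI := h; exact isSolvable_of_le (inf_le_left : K ≤ G)) p
  have hVK : V ≤ K := le_inf hVG Subgroup.le_normalizer
  have hVP : V ≤ (P : Subgroup K).map K.subtype := by
    have : (V.subgroupOf K).Normal :=
      (Subgroup.normal_subgroupOf_iff_le_normalizer hVK).mpr inf_le_right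
    have h1 := Subgroup.map_mono (f := K.subtype)
      ((hVp.of_equiv (Subgroup.subgroupOfEquivOfLe hVK).symm).le_sylow_of_normal P)
    rwa [Subgroup.subgroupOf_map_subtype, inf_eq_left.mpr hVK] at h1
  have hPV : (P : Subgroup K).map K.subtype = V :=
    le_antisymm (hV.2 ⟨(Subgroup.map_subtype_le _).trans inf_le_left,
      P.isPGroup'.map _, hP⟩ hVP) hVP
  obtain ⟨R, hR⟩ := (hVp.of_equiv (Subgroup.subgroupOfEquivOfLe hVG).symm).exists_le_sylow
  have hVR : V.subgroupOf G = R := by
    by_contra hne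
    have : Group.IsNilpotent R := R.isPGroup'.isNilpotent
    have hlt := Group.normalizerCondition_of_isNilpotent (G := R)
      ((V.subgroupOf G).subgroupOf R) (by
        rw [lt_top_iff_ne_top, Ne, Subgroup.subgroupOf_eq_top]
        exact fun h => hne (le_antisymm hR h))
    obtain ⟨x, hx, hxn⟩ := SetLike.exists_of_lt hlt
    -- the subgroup generated by `V` and `x` is a `p`-subgroup of `K` larger than `P`
    have hxV : ((x : G) : X) ∈ Subgroup.normalizer (V : Set X) := by
      rw [← Subgroup.subgroupOf_normalizer_eq hR, Subgroup.mem_subgroupOf,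
        ← Subgroup.subgroupOf_normalizer_eq hVG, Subgroup.mem_subgroupOf] at hx
      exact hx
    have hxK : ((x : G) : X) ∈ K := Subgroup.mem_inf.mpr ⟨(x : G).2, hxV⟩
    set W := V ⊔ Subgroup.zpowers ((x : G) : X) with hW
    have hWK : W ≤ K := sup_le hVK (by rwa [Subgroup.zpowers_le])
    have hWR : W ≤ (R : Subgroup G).map G.subtype := by
      refine sup_le ?_ (Subgroup.zpowers_le.mpr ⟨x, x.2, rfl⟩)
      exact fun v hv => ⟨⟨v, hVG hv⟩, hR hv, rfl⟩
    have hWp : IsPGroup p W := (R.isPGroup'.map _).to_le hWR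
    have hle : (P : Subgroup K) ≤ W.subgroupOf K := by
      intro y hy
      exact Subgroup.mem_subgroupOf.mpr
        (Subgroup.mem_sup_left (hPV.le (Subgroup.mem_map_of_mem K.subtype hy)))
    have h1 := P.is_maximal' (hWp.of_equiv (Subgroup.subgroupOfEquivOfLe hWK).symm) hle
    apply hxn
    have h2 : (⟨_, hxK⟩ : K) ∈ W.subgroupOf K :=
      Subgroup.mem_subgroupOf.mpr (Subgroup.mem_sup_right (Subgroup.mem_zpowers _))
    rw [h1] at h2
    exact hPV.le ⟨_, h2, rfl⟩
  refine ⟨R, ?_, ?_⟩ <;>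
    rw [← hVR, Subgroup.subgroupOf_map_subtype, inf_eq_left.mpr hVG]
  exacts [hUV, hVA]

/-- `G = [G,A] C_G(A)` under coprime action. -/
theorem commutator_sup_centralizer (hAG : A ≤ Subgroup.normalizer (G : Set X))
    (hcop : (Nat.card A).Coprime (Nat.card G))
    (hsolv : Group.IsSolvable A ∨ Group.IsSolvable G) :
    ⁅G, A⁆ ⊔ (G ⊓ Subgroup.centralizer (A : Set X)) = G := by
  have hle : ⁅G, A⁆ ≤ G := commutator_le_of_le_normalizer hAG
  refine le_antisymm (sup_le hle inf_le_left) fun k hk => ?_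
  obtain ⟨c, hc, hcN⟩ := exists_fixed_mem_coset (Subgroup.normalizer_commutator_ge_right G A)
    (hcop.coprime_dvd_right (Subgroup.card_dvd_of_le hle))
    (hsolv.imp_right fun h => by haveI := h; exact isSolvable_of_le hle)
    (k := k) (fun a ha => by
      have := Subgroup.commutator_mem_commutator (G.inv_mem hk) ha
      simpa [commutatorElement_def, mul_assoc] using this)
  have hcG : c ∈ G := by
    have := G.mul_mem hk (hle hcN)
    simpa using this
  have h1 : k = c * (k⁻¹ * c)⁻¹ := by group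
  rw [h1]
  exact mul_mem (Subgroup.mem_sup_right (Subgroup.mem_inf.mpr ⟨hcG, hc⟩))
    (Subgroup.mem_sup_left (inv_mem hcN))

/-- `[G,A,A] = [G,A]` under coprime action. -/
theorem commutator_commutator_eq (hAG : A ≤ Subgroup.normalizer (G : Set X))
    (hcop : (Nat.card A).Coprime (Nat.card G)) :
    ⁅⁅G, A⁆, A⁆ = ⁅G, A⁆ := by
  refine le_antisymm (commutator_le_of_le_normalizer (Subgroup.normalizer_commutator_ge_right G A))
    (Subgroup.commutator_le.mpr fun k hk a ha => ?_)
  set B := Subgroup.zpowers a with hB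
  have hBA : B ≤ A := Subgroup.zpowers_le.mpr ha
  have hBsolv : Group.IsSolvable B :=
    Group.isSolvable_of_comm fun x y => Subtype.ext (by
      obtain ⟨i, hi⟩ := Subgroup.mem_zpowers_iff.mp x.2
      obtain ⟨j, hj⟩ := Subgroup.mem_zpowers_iff.mp y.2
      show (x : X) * y = y * x
      rw [← hi, ← hj]
      exact (Commute.zpow_zpow (Commute.refl a) i j).eq)
  have hsplit := commutator_sup_centralizer (hBA.trans hAG)
    (hcop.coprime_dvd_left (Subgroup.card_dvd_of_le hBA)) (Or.inl hBsolv)
  have hnorm : G ⊓ Subgroup.centralizer (B : Set X) ≤ Subgroup.normalizer (⁅G, B⁆ : Subgroup X) :=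
    inf_le_left.trans (Subgroup.normalizer_commutator_ge_left G B)
  rw [← hsplit] at hk
  obtain ⟨m, hm, c, hc, rfl⟩ := exists_mul_of_mem_sup hnorm hk
  have h0 : ⁅c, a⁆ = 1 := commutatorElement_eq_one_iff_mul_comm.mpr
    (Subgroup.mem_centralizer_iff.mp (Subgroup.mem_inf.mp hc).2 a (Subgroup.mem_zpowers a)).symm
  have h1 : ⁅m * c, a⁆ = ⁅m, a⁆ := by
    rw [commutatorElement_mul_left_eq_conj_mul, h0]; simp
  rw [h1]
  exact Subgroup.commutator_mem_commutator
    (Subgroup.commutator_mono (le_refl G) hBA hm) ha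

/-- A coprime action stabilising a series `G ≥ [G,A] ≥ 1` is trivial. -/
theorem le_centralizer_of_commutator_commutator_eq_bot
    (hAG : A ≤ Subgroup.normalizer (G : Set X)) (hcop : (Nat.card A).Coprime (Nat.card G))
    (h : ⁅⁅G, A⁆, A⁆ = ⊥) : A ≤ Subgroup.centralizer (G : Set X) := by
  rw [commutator_commutator_eq hAG hcop] at h
  rw [← Subgroup.commutator_eq_bot_iff_le_centralizer, Subgroup.commutator_comm]
  exact h

/-- An action that is trivial modulo the Frattini subgroup of `G` and coprime to it is trivial. -/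
theorem le_centralizer_of_commutator_le_frattini (hAG : A ≤ Subgroup.normalizer (G : Set X))
    (hcop : (Nat.card A).Coprime (Nat.card (frattini G)))
    (h : ⁅G, A⁆ ≤ (frattini G).map G.subtype) : A ≤ Subgroup.centralizer (G : Set X) := by
  set Φ := (frattini G).map G.subtype with hΦ
  have hΦG : Φ ≤ G := Subgroup.map_subtype_le _
  have hcΦ : Nat.card Φ = Nat.card (frattini G) :=
    Subgroup.card_map_of_injective G.subtype_injective
  have hΦnil : Group.IsNilpotent (frattini G) := frattini_nilpotent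
  have hΦsolv : Group.IsSolvable Φ :=
    Group.isSolvable_of_surjective (f := ((frattini G).equivMapOfInjective G.subtype
      G.subtype_injective).toMonoidHom) (MulEquiv.surjective _)
  have hAΦ : A ≤ Subgroup.normalizer (Φ : Set X) := by
    rw [Subgroup.le_normalizer_iff_commutator_le_left]
    exact (Subgroup.commutator_mono hΦG le_rfl).trans h
  have hsplit : (G ⊓ Subgroup.centralizer (A : Set X)).subgroupOf G ⊔ frattini G = ⊤ := by
    rw [eq_top_iff]
    rintro ⟨k, hk⟩ -
    obtain ⟨c, hc, hcN⟩ := exists_fixed_mem_coset hAΦ (hcΦ ▸ hcop) (Or.inr hΦsolv) (k := k)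
      (fun a ha => by
        have := h (Subgroup.commutator_mem_commutator (G.inv_mem hk) ha)
        simpa [commutatorElement_def, mul_assoc] using this)
    have hcG : c ∈ G := by
      have := G.mul_mem hk (hΦG hcN)
      simpa using this
    obtain ⟨z, hz, hzeq⟩ := hcN
    have h1 : (⟨k, hk⟩ : G) = ⟨c, hcG⟩ * z⁻¹ := Subtype.ext (by
      simp only [Subgroup.coe_mul, Subgroup.coe_inv]
      rw [show (z : X) = k⁻¹ * c from hzeq]; group)
    rw [h1]
    exact Subgroup.mul_mem_sup (Subgroup.mem_subgroupOf.mpr (Subgroup.mem_inf.mpr ⟨hcG, hc⟩))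
      (inv_mem hz)
  have htop := frattini_nongenerating hsplit
  rw [Subgroup.subgroupOf_eq_top] at htop
  exact Subgroup.le_centralizer_iff.mp (htop.trans inf_le_right)

/-- Fixed points of a product of two invariant subgroups are products of fixed points. -/
theorem exists_mul_eq_of_mem_centralizer {U V : Subgroup X}
    (hAU : A ≤ Subgroup.normalizer (U : Set X)) (hAV : A ≤ Subgroup.normalizer (V : Set X))
    (hcop : (Nat.card A).Coprime (Nat.card ↥(U ⊓ V)))
    (hsolv : Group.IsSolvable A ∨ Group.IsSolvable ↥(U ⊓ V))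
    {x y : X} (hx : x ∈ U) (hy : y ∈ V) (hfix : x * y ∈ Subgroup.centralizer (A : Set X)) :
    ∃ x' ∈ U ⊓ Subgroup.centralizer (A : Set X), ∃ y' ∈ V ⊓ Subgroup.centralizer (A : Set X),
      x * y = x' * y' := by
  obtain ⟨c, hc, hcN⟩ := exists_fixed_mem_coset
    ((le_inf hAU hAV).trans Subgroup.inf_normalizer_le_normalizer_inf) hcop hsolv (k := x)
    (fun a ha => by
      refine Subgroup.mem_inf.mpr ⟨conj_commutator_mem hAU hx ha, ?_⟩
      have h1 : a * (x * y) * a⁻¹ = x * y := by
        rw [Subgroup.mem_centralizer_iff.mp hfix a ha, mul_inv_cancel_right]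
      have h2 : x⁻¹ * (a * x * a⁻¹) = y * (a * y * a⁻¹)⁻¹ := by
        rw [eq_mul_inv_iff_mul_eq, mul_assoc, inv_mul_eq_iff_eq_mul, ← h1]
        group
      rw [h2]
      exact V.mul_mem hy (V.inv_mem ((Subgroup.mem_normalizer_iff.mp (hAV ha) y).mp hy)))
  have hcU : c ∈ U := by
    have := U.mul_mem hx (Subgroup.mem_inf.mp hcN).1
    simpa using this
  refine ⟨c, Subgroup.mem_inf.mpr ⟨hcU, hc⟩, c⁻¹ * (x * y), Subgroup.mem_inf.mpr ⟨?_, ?_⟩,
    by group⟩
  · have := V.mul_mem (V.inv_mem (Subgroup.mem_inf.mp hcN).2) hy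
    simpa [mul_assoc] using this
  · exact mul_mem (inv_mem hc) hfix

end CfsgLib.Coprime
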