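import Cfsg.Agent.Coprime.Action

/-!
Thompson's `P × Q` lemma.
-/

open Pointwise
open scoped commutatorElement

namespace CfsgLib.Coprime

variable {X : Type*} [Group X]

/-- In a finite `p`-group `U P`, a nontrivial `U` normalised by `P` is larger than `[U,P]`. -/
theorem commutator_lt_of_isPGroup [Finite X] {p : ℕ} [Fact p.Prime] {U P : Subgroup X}
    (hU : IsPGroup p U) (hP : IsPGroup p P) (hPU : P ≤ Subgroup.normalizer (U : Set X))
    (hne : U ≠ ⊥) : ⁅U, P⁆ < U := by
  refine (commutator_le_of_le_normalizer hPU).lt_of_ne fun heq => hne ?_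
  set L := U ⊔ P
  have hL : IsPGroup p L := hU.to_sup_of_normal_left' hP hPU
  have : Group.IsNilpotent L := hL.isNilpotent
  obtain ⟨n, hn⟩ := Subgroup.nilpotent_iff_lowerCentralSeries.mp this
  have key : ∀ k, U ≤ ((⊤ : Subgroup L).lowerCentralSeries k).map L.subtype := by
    intro k
    induction k with
    | zero =>
      rw [Subgroup.lowerCentralSeries_zero, ← MonoidHom.range_eq_map, L.range_subtype]
      exact le_sup_left
    | succ k ih =>
      rw [Subgroup.lowerCentralSeries_succ, Subgroup.map_commutator,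
        ← MonoidHom.range_eq_map, L.range_subtype]
      calc U = ⁅U, P⁆ := heq.symm
        _ ≤ _ := Subgroup.commutator_mono ih le_sup_right
  simpa [hn] using key n

private theorem pTimesQ_aux [Finite X] {p : ℕ} [Fact p.Prime] (n : ℕ) :
    ∀ U P Q : Subgroup X, Nat.card U = n → IsPGroup p P → (Nat.card Q).Coprime p → IsPGroup p U →
      P ≤ Subgroup.centralizer (Q : Set X) → P ≤ Subgroup.normalizer (U : Set X) →
      Q ≤ Subgroup.normalizer (U : Set X) →
      U ⊓ Subgroup.centralizer (P : Set X) ≤ Subgroup.centralizer (Q : Set X) →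
      Q ≤ Subgroup.centralizer (U : Set X) := by
  induction n using Nat.strongRecOn with | ind n ih => ?_
  intro U P Q hn hP hQ hU hPQ hPU hQU hC
  have hcop : (Nat.card Q).Coprime (Nat.card U) := by
    obtain ⟨k, hk⟩ := hU.exists_card_eq
    rw [hk]; exact hQ.pow_right k
  have hrec : ∀ W : Subgroup X, W < U → P ≤ Subgroup.normalizer (W : Set X) →
      Q ≤ Subgroup.normalizer (W : Set X) → Q ≤ Subgroup.centralizer (W : Set X) := fun W hW h1 h2 =>
    ih (Nat.card W) (hn ▸ Set.Finite.card_lt_card (Set.toFinite _) hW) W P Q rfl hP hQ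
      (hU.to_le hW.le) hPQ h1 h2 ((inf_le_inf_right _ hW.le).trans hC)
  have hQP : Q ≤ Subgroup.centralizer (P : Set X) := Subgroup.le_centralizer_iff.mp hPQ
  rcases eq_or_ne U ⊥ with rfl | hne
  · intro q _
    simp [Subgroup.mem_centralizer_iff]
  have hPn : P ≤ Subgroup.normalizer ((Q : Subgroup X) : Set X) :=
    hPQ.trans (Subgroup.centralizer_le_normalizer _)
  have hQn : Q ≤ Subgroup.normalizer ((P : Subgroup X) : Set X) :=
    hQP.trans (Subgroup.centralizer_le_normalizer _)
  -- `[U,Q]` proper: induction plus `[U,Q,Q] = [U,Q]`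
  by_cases hUQ : ⁅U, Q⁆ = U
  swap
  · have hlt : ⁅U, Q⁆ < U := (commutator_le_of_le_normalizer hQU).lt_of_ne hUQ
    have h1 := hrec ⁅U, Q⁆ hlt
      (by
        rw [Subgroup.le_normalizer_iff]
        intro x hx y hy
        have h2 : MulAut.conj x • ⁅U, Q⁆ = ⁅U, Q⁆ := by
          show (⁅U, Q⁆).map (MulAut.conj x).toMonoidHom = _
          rw [Subgroup.map_commutator]
          exact congrArg₂ _ (conj_smul_eq_self (hPU hx)) (conj_smul_eq_self (hPn hx))
        exact h2 ▸ conj_mem_conj_smul hy)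
      (Subgroup.normalizer_commutator_ge_right U Q)
    refine le_centralizer_of_commutator_commutator_eq_bot hQU hcop ?_
    rw [Subgroup.commutator_eq_bot_iff_le_centralizer]
    exact Subgroup.le_centralizer_iff.mp h1
  have hlt := commutator_lt_of_isPGroup hU hP hPU hne
  have h1 := hrec ⁅U, P⁆ hlt (Subgroup.normalizer_commutator_ge_right U P)
    (by
      rw [Subgroup.le_normalizer_iff]
      intro x hx y hy
      have h2 : MulAut.conj x • ⁅U, P⁆ = ⁅U, P⁆ := by
        show (⁅U, P⁆).map (MulAut.conj x).toMonoidHom = _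
        rw [Subgroup.map_commutator]
        exact congrArg₂ _ (conj_smul_eq_self (hQU hx)) (conj_smul_eq_self (hQn hx))
      exact h2 ▸ conj_mem_conj_smul hy)
  have hA : ⁅⁅P, Q⁆, U⁆ = ⊥ := by
    rw [Subgroup.commutator_eq_bot_iff_le_centralizer.mpr hPQ, Subgroup.commutator_bot_left]
  have hB : ⁅⁅U, P⁆, Q⁆ = ⊥ :=
    Subgroup.commutator_eq_bot_iff_le_centralizer.mpr (Subgroup.le_centralizer_iff.mp h1)
  have hD : ⁅⁅Q, U⁆, P⁆ = ⊥ := Subgroup.commutator_commutator_eq_bot_of_rotate hB hA
  rw [Subgroup.commutator_comm Q U, hUQ, Subgroup.commutator_eq_bot_iff_le_centralizer] at hD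
  exact Subgroup.le_centralizer_iff.mp ((le_inf le_rfl hD).trans hC)

/-- **Thompson's `P × Q` lemma.** If a `p`-group `P` and a `p'`-group `Q` centralise one another
and normalise a `p`-group `U`, and `Q` centralises `C_U(P)`, then `Q` centralises `U`. -/
theorem le_centralizer_of_inf_centralizer_le [Finite X] {p : ℕ} [Fact p.Prime]
    {U P Q : Subgroup X} (hP : IsPGroup p P) (hQ : (Nat.card Q).Coprime p) (hU : IsPGroup p U)
    (hPQ : P ≤ Subgroup.centralizer (Q : Set X)) (hPU : P ≤ Subgroup.normalizer (U : Set X))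
    (hQU : Q ≤ Subgroup.normalizer (U : Set X))
    (hC : U ⊓ Subgroup.centralizer (P : Set X) ≤ Subgroup.centralizer (Q : Set X)) :
    Q ≤ Subgroup.centralizer (U : Set X) :=
  pTimesQ_aux _ U P Q rfl hP hQ hU hPQ hPU hQU hC

end CfsgLib.Coprime
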