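import Mathlib.GroupTheory.Abelianization.Defs
import Mathlib.GroupTheory.SpecificGroups.Cyclic
import Mathlib.Algebra.Field.ZMod
import Cfsg.Agent.Coprime.Action

/-!
Generation by centralisers: if a noncyclic abelian group `A` acts coprimely on `G`, then `G` is
generated by the subgroups `C_G(a)` for `a ∈ A`, `a ≠ 1`.
-/

open Pointwise
open scoped commutatorElement IsMulCommutative

namespace CfsgLib.Coprime

/-- A finite abelian group with at most `q` solutions of `a ^ q = 1` for every prime `q` is
cyclic. -/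
theorem isCyclic_of_forall_prime {A : Type*} [CommGroup A] [Finite A]
    (h : ∀ q : ℕ, q.Prime → Nat.card (powMonoidHom q : A →* A).ker ≤ q) : IsCyclic A := by
  classical
  cases nonempty_fintype A
  have key : ∀ n : ℕ, 0 < n → Nat.card (powMonoidHom n : A →* A).ker ≤ n := by
    intro n
    induction n using Nat.strongRecOn with | ind n ih => ?_
    intro hn
    rcases eq_or_ne n 1 with rfl | hn1
    · simp [powMonoidHom]
    obtain ⟨q, hq, m, rfl⟩ := Nat.exists_prime_and_dvd hn1
    have hm : 0 < m := Nat.pos_of_mul_pos_left hn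
    set K := (powMonoidHom (q * m) : A →* A).ker
    let f : K →* A := (powMonoidHom q).comp K.subtype
    have h1 : Nat.card f.range ≤ m := by
      refine le_trans (Subgroup.card_le_of_le ?_) (ih m (lt_mul_of_one_lt_left hm hq.one_lt) hm)
      rintro _ ⟨⟨a, ha⟩, rfl⟩
      have ha' : a ^ (q * m) = 1 := ha
      show (a ^ q) ^ m = 1
      rwa [← pow_mul]
    have h2 : Nat.card f.ker ≤ q := by
      refine le_trans (Nat.card_le_card_of_injective
        (fun x : f.ker => (⟨((x : K) : A), by
          simpa [f, powMonoidHom] using x.2⟩ : (powMonoidHom q : A →* A).ker)) ?_) (h q hq)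
      intro x y hxy
      exact Subtype.ext (Subtype.ext (congrArg (fun z : (powMonoidHom q : A →* A).ker => (z : A)) hxy))
    rw [← Subgroup.card_mul_index f.ker, Subgroup.index_eq_card,
      Nat.card_congr (QuotientGroup.quotientKerEquivRange f).toEquiv]
    exact Nat.mul_le_mul h2 h1
  refine isCyclic_of_card_pow_eq_one_le fun n hn => le_trans (le_of_eq ?_) (key n hn)
  rw [Nat.card_eq_fintype_card]
  refine (Fintype.card_of_subtype _ fun a => ?_).symm
  simp [MonoidHom.mem_ker, powMonoidHom]

/-- A noncyclic finite abelian group contains two independent elements of the same prime order. -/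
theorem exists_independent_of_not_isCyclic {A : Type*} [CommGroup A] [Finite A]
    (h : ¬ IsCyclic A) : ∃ (q : ℕ) (_ : q.Prime) (x y : A),
      x ^ q = 1 ∧ y ^ q = 1 ∧ x ≠ 1 ∧ y ∉ Subgroup.zpowers x := by
  obtain ⟨q, hq, hlt⟩ : ∃ q : ℕ, q.Prime ∧ q < Nat.card (powMonoidHom q : A →* A).ker := by
    by_contra hne
    exact h (isCyclic_of_forall_prime fun q hq => le_of_not_gt fun hlt => hne ⟨q, hq, hlt⟩)
  set K := (powMonoidHom q : A →* A).ker
  obtain ⟨x, hx, hx1⟩ : ∃ x ∈ K, x ≠ 1 := by
    by_contra hne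
    have : K = ⊥ := (Subgroup.eq_bot_iff_forall K).mpr fun a ha => by
      by_contra h1; exact hne ⟨a, ha, h1⟩
    rw [this, Subgroup.card_bot] at hlt
    exact absurd hq.one_lt (by omega)
  obtain ⟨y, hy, hyx⟩ : ∃ y ∈ K, y ∉ Subgroup.zpowers x := by
    by_contra hne
    have hle : K ≤ Subgroup.zpowers x := fun a ha => by
      by_contra h1; exact hne ⟨a, ha, h1⟩
    have := (Subgroup.card_le_of_le hle).trans_lt' hlt
    rw [Nat.card_zpowers] at this
    exact this.not_ge (Nat.le_of_dvd hq.pos (orderOf_dvd_of_pow_eq_one hx))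
  exact ⟨q, hq, x, y, hx, hy, hx1, hyx⟩

/-- If `E = Z_q × Z_q` acts on an abelian group of exponent prime to `q`, every element is a
product of elements fixed by some nontrivial element of `E`. -/
theorem mem_of_fixed_mem {q : ℕ} [Fact q.Prime] {M : Type*} [CommGroup M]
    (τ : ZMod q × ZMod q → (M →* M)) (hτ0 : ∀ z, τ 0 z = z)
    (hτ : ∀ u v z, τ u (τ v z) = τ (u + v) z)
    (W : Subgroup M) (hW : ∀ u, u ≠ 0 → ∀ z, τ u z = z → z ∈ W)
    (v : M) (hv : (orderOf v).Coprime q) : v ∈ W := by
  set h : ZMod q × ZMod q → M := fun u => τ u v with hh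
  -- a sum over the multiples of `u`, shifted by `c`, is fixed by `u`
  have hline : ∀ u : ZMod q × ZMod q, u ≠ 0 → ∏ t : ZMod q, h (t • u) ∈ W := by
    intro u hu
    refine hW u hu _ ?_
    simp only [map_prod, hh, hτ]
    exact Fintype.prod_equiv (Equiv.addLeft 1) _ _ fun t => by
      show τ (u + t • u) v = τ ((1 + t) • u) v
      rw [show (1 + t) • u = u + t • u from Prod.ext (by simp [add_mul]) (by simp [add_mul])]
  have hall : ∀ u₀ : ZMod q × ZMod q, u₀ ≠ 0 → ∏ u, h u ∈ W := by
    intro u₀ hu₀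
    refine hW u₀ hu₀ _ ?_
    simp only [map_prod, hh, hτ]
    exact Fintype.prod_equiv (Equiv.addLeft u₀) _ _ fun t => rfl
  have e1 : (∏ i : ZMod q, ∏ t : ZMod q, h (t • ((1 : ZMod q), i))) *
      ∏ t : ZMod q, h (t • ((0 : ZMod q), (1 : ZMod q))) = v ^ q * ∏ u, h u := by
    simp only [Prod.smul_mk, smul_eq_mul, mul_one, mul_zero]
    rw [Finset.prod_comm, Fintype.prod_prod_type]
    rw [← Finset.mul_prod_erase _ _ (Finset.mem_univ (0 : ZMod q)),
      ← Finset.mul_prod_erase _ (fun x : ZMod q => ∏ y : ZMod q, h (x, y))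
        (Finset.mem_univ (0 : ZMod q))]
    have h0 : ∏ i : ZMod q, h (0, 0 * i) = v ^ q := by
      simp [hh, ZMod.card, show ((0 : ZMod q), (0 : ZMod q)) = 0 from rfl, hτ0]
    have hrest : ∏ x ∈ Finset.univ.erase (0 : ZMod q), ∏ i : ZMod q, h (x, x * i) =
        ∏ x ∈ Finset.univ.erase (0 : ZMod q), ∏ y : ZMod q, h (x, y) :=
      Finset.prod_congr rfl fun x hx =>
        Fintype.prod_equiv (Equiv.mulLeft₀ x (Finset.ne_of_mem_erase hx)) _ _ fun i => rfl
    rw [h0, hrest]
    ac_rfl
  have hvq : v ^ q ∈ W := by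
    have h1 : (∏ i : ZMod q, ∏ t : ZMod q, h (t • ((1 : ZMod q), i))) *
        ∏ t : ZMod q, h (t • ((0 : ZMod q), (1 : ZMod q))) ∈ W :=
      mul_mem (prod_mem fun i _ => hline _ (by simp)) (hline _ (by simp))
    rw [e1] at h1
    exact (Subgroup.mul_mem_cancel_right W (hall (1, 0) (by simp))).mp h1
  obtain ⟨m, hm⟩ := exists_pow_eq_self_of_coprime hv.symm
  rw [← hm]
  exact pow_mem hvq m

variable {X : Type*} [Group X]

private theorem closure_eq_aux [Finite X] {q : ℕ} [Fact q.Prime] (n : ℕ) :
    ∀ (G : Subgroup X) (e : Multiplicative (ZMod q × ZMod q) →* X), Nat.card G = n →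
      Group.IsSolvable G → Function.Injective e → e.range ≤ Subgroup.normalizer (G : Set X) →
      q.Coprime (Nat.card G) →
      ∀ W : Subgroup X, (∀ u, u ≠ 1 → G ⊓ Subgroup.centralizer ({e u} : Set X) ≤ W) → G ≤ W := by
  induction n using Nat.strongRecOn with | ind n ih => ?_
  intro G e hn hsolv he hnorm hcop W hW
  rcases eq_or_ne G ⊥ with rfl | hne
  · exact bot_le
  have : Nontrivial G := (Subgroup.nontrivial_iff_ne_bot G).mpr hne
  set N := ⁅G, G⁆ with hN
  have hNG : N ≤ G := G.commutator_le_self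
  have hNlt : N < G := by
    have h1 := (Subgroup.map_subtype_lt_map_subtype (G' := G)).mpr
      (Group.IsSolvable.commutator_lt_top_of_nontrivial G)
    rwa [Subgroup.map_subtype_commutator, ← MonoidHom.range_eq_map, G.range_subtype] at h1
  have hNnorm : e.range ≤ Subgroup.normalizer (N : Set X) := by
    refine le_normalizer_of_eq_self fun a ha => ?_
    show N.map (MulAut.conj a).toMonoidHom = N
    rw [hN, Subgroup.map_commutator]
    exact congrArg₂ _ (conj_smul_eq_self (hnorm ha)) (conj_smul_eq_self (hnorm ha))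
  have hNW : N ≤ W := ih _ (hn ▸ Set.Finite.card_lt_card (Set.toFinite _) hNlt) N e rfl
    (isSolvable_of_le hNG) he hNnorm (hcop.coprime_dvd_right (Subgroup.card_dvd_of_le hNG)) W
    (fun u hu => (inf_le_inf_right _ hNG).trans (hW u hu))
  have hmem : ∀ (u : ZMod q × ZMod q) (g : G),
      e (Multiplicative.ofAdd u) * g * (e (Multiplicative.ofAdd u))⁻¹ ∈ G := fun u g =>
    (Subgroup.mem_normalizer_iff.mp (hnorm (MonoidHom.mem_range.mpr ⟨_, rfl⟩)) _).mp g.2
  let σ : ZMod q × ZMod q → (G →* G) := fun u =>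
    { toFun := fun g => ⟨_, hmem u g⟩
      map_one' := Subtype.ext (by simp)
      map_mul' := fun g k => Subtype.ext (by simp [mul_assoc]) }
  let τ : ZMod q × ZMod q → (Abelianization G →* Abelianization G) := fun u =>
    Abelianization.map (σ u)
  have hof : Function.Surjective (Abelianization.of : G → Abelianization G) := Quot.mk_surjective
  intro g hg
  have key : Abelianization.of (⟨g, hg⟩ : G) ∈ (W.subgroupOf G).map Abelianization.of := by
    refine mem_of_fixed_mem τ ?_ ?_ _ ?_ _ ?_
    · intro z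
      obtain ⟨k, rfl⟩ := hof z
      simp only [τ, Abelianization.map_of]
      exact congrArg _ (Subtype.ext (by simp [σ]))
    · intro u v z
      obtain ⟨k, rfl⟩ := hof z
      simp only [τ, Abelianization.map_of]
      exact congrArg _ (Subtype.ext (by simp [σ, mul_assoc]))
    · intro u hu z hz
      obtain ⟨k, rfl⟩ := hof z
      simp only [τ, Abelianization.map_of] at hz
      set B := Subgroup.zpowers (e (Multiplicative.ofAdd u)) with hB
      have hBN : B ≤ Subgroup.normalizer (N : Set X) :=
        Subgroup.zpowers_le.mpr (hNnorm (MonoidHom.mem_range.mpr ⟨_, rfl⟩))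
      have hcB : Nat.card B ∣ q := by
        rw [hB, Nat.card_zpowers]
        refine orderOf_dvd_of_pow_eq_one ?_
        rw [← map_pow, ← ofAdd_nsmul, show q • u = 0 from Prod.ext (by simp) (by simp)]
        simp
      have hfix : ∀ a ∈ B, (k : X)⁻¹ * (a * k * a⁻¹) ∈ N := by
        have h0 : k⁻¹ * σ u k ∈ commutator G := by
          rw [← Abelianization.ker_of, MonoidHom.mem_ker, map_mul, map_inv, hz, inv_mul_cancel]
        have h1 : ((k⁻¹ * σ u k : G) : X) ∈ N := by
          rw [hN, ← Subgroup.map_subtype_commutator]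
          exact Subgroup.mem_map_of_mem G.subtype h0
        -- the stabiliser of a coset is a subgroup
        let S : Subgroup X :=
          { carrier := {a | a ∈ Subgroup.normalizer (N : Set X) ∧ (k : X)⁻¹ * (a * k * a⁻¹) ∈ N}
            one_mem' := ⟨one_mem _, by simp⟩
            mul_mem' := by
              intro a b ⟨ha1, ha2⟩ ⟨hb1, hb2⟩
              refine ⟨mul_mem ha1 hb1, ?_⟩
              have h3 := mul_mem ha2 ((Subgroup.mem_normalizer_iff.mp ha1 _).mp hb2)
              have h4 : (k : X)⁻¹ * (a * b * k * (a * b)⁻¹) =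
                  (k : X)⁻¹ * (a * k * a⁻¹) * (a * ((k : X)⁻¹ * (b * k * b⁻¹)) * a⁻¹) := by
                group
              rwa [h4]
            inv_mem' := by
              intro a ⟨ha1, ha2⟩
              refine ⟨inv_mem ha1, ?_⟩
              have h3 := (Subgroup.mem_normalizer_iff.mp (inv_mem ha1) _).mp (inv_mem ha2)
              simpa [mul_assoc] using h3 }
        intro a ha
        exact ((Subgroup.zpowers_le (H := S)).mpr
          ⟨hNnorm (MonoidHom.mem_range.mpr ⟨_, rfl⟩), by simpa [σ] using h1⟩ ha).2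
      obtain ⟨c, hc, hcN⟩ := exists_fixed_mem_coset hBN
        (Nat.Coprime.coprime_dvd_left hcB (hcop.coprime_dvd_right (Subgroup.card_dvd_of_le hNG)))
        (Or.inr (isSolvable_of_le hNG)) hfix
      have hcG : c ∈ G := by
        have := G.mul_mem k.2 (hNG hcN)
        simpa using this
      refine ⟨⟨c, hcG⟩, hW (Multiplicative.ofAdd u) (by simpa using hu) (Subgroup.mem_inf.mpr
        ⟨hcG, ?_⟩), ?_⟩
      · rw [Subgroup.mem_centralizer_singleton_iff]
        exact (Subgroup.mem_centralizer_iff.mp hc _ (Subgroup.mem_zpowers _)).symm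
      · rw [eq_comm, ← inv_mul_eq_one, ← map_inv, ← map_mul, ← MonoidHom.mem_ker,
          Abelianization.ker_of]
        rw [hN, ← Subgroup.map_subtype_commutator] at hcN
        obtain ⟨z, hz1, hz2⟩ := hcN
        have h2 : k⁻¹ * (⟨c, hcG⟩ : G) = z := Subtype.ext (by
          simp only [Subgroup.coe_mul, Subgroup.coe_inv]
          exact hz2.symm)
        rw [h2]
        exact hz1
    · exact (Nat.Coprime.coprime_dvd_left
        ((orderOf_map_dvd _ _).trans (orderOf_dvd_natCard _)) hcop.symm)
  obtain ⟨w, hw, hwg⟩ := key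
  have h0 : w⁻¹ * ⟨g, hg⟩ ∈ commutator G := by
    rw [← Abelianization.ker_of, MonoidHom.mem_ker, map_mul, map_inv, hwg, inv_mul_cancel]
  have h1 := hNW (show ((w⁻¹ * ⟨g, hg⟩ : G) : X) ∈ N by
    rw [hN, ← Subgroup.map_subtype_commutator]
    exact Subgroup.mem_map_of_mem G.subtype h0)
  have h2 := W.mul_mem hw h1
  simpa using h2

/-- **Generation by centralisers.** A noncyclic abelian group `A` acting coprimely on `G`: every
subgroup containing all `C_G(a)`, `a ∈ A`, `a ≠ 1`, contains `G`. -/
theorem le_of_forall_inf_centralizer_le [Finite X] {G A : Subgroup X} [IsMulCommutative A]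
    (hA : ¬ IsCyclic A) (hAG : A ≤ Subgroup.normalizer (G : Set X))
    (hcop : (Nat.card A).Coprime (Nat.card G)) {W : Subgroup X}
    (hW : ∀ a ∈ A, a ≠ 1 → G ⊓ Subgroup.centralizer ({a} : Set X) ≤ W) : G ≤ W := by
  obtain ⟨q, hq, x, y, hx, hy, hx1, hyx⟩ := exists_independent_of_not_isCyclic hA
  have := Fact.mk hq
  let fx : ZMod q →+ Additive A := ZMod.lift q ⟨zmultiplesHom (Additive A) (Additive.ofMul x), by
    simpa [← ofMul_zpow] using congrArg Additive.ofMul hx⟩
  let fy : ZMod q →+ Additive A := ZMod.lift q ⟨zmultiplesHom (Additive A) (Additive.ofMul y), by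
    simpa [← ofMul_zpow] using congrArg Additive.ofMul hy⟩
  let f : ZMod q × ZMod q →+ Additive A := fx.coprod fy
  let e : Multiplicative (ZMod q × ZMod q) →* X :=
    A.subtype.comp (AddMonoidHom.toMultiplicativeLeft f)
  have hf : Function.Injective f := by
    rw [injective_iff_map_eq_zero]
    rintro ⟨i, j⟩ hij
    obtain ⟨a, rfl⟩ := ZMod.intCast_surjective i
    obtain ⟨b, rfl⟩ := ZMod.intCast_surjective j
    have h1 : x ^ a * y ^ b = 1 := by
      simpa [f, fx, fy, ← ofMul_zpow, ← ofMul_mul] using congrArg Additive.toMul hij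
    have hb : (b : ZMod q) = 0 := by
      by_contra hb
      apply hyx
      obtain ⟨c, hc⟩ := ZMod.intCast_surjective ((b : ZMod q)⁻¹)
      have h2 : ((b * c : ℤ) : ZMod q) = ((1 : ℤ) : ZMod q) := by
        push_cast; rw [hc, mul_inv_cancel₀ hb]
      have h3 : y ^ (b * c) = y ^ (1 : ℤ) := by
        rw [zpow_eq_zpow_iff_modEq]
        exact ((ZMod.intCast_eq_intCast_iff _ _ _).mp h2).of_dvd
          (Int.natCast_dvd_natCast.mpr (orderOf_dvd_of_pow_eq_one hy))
      rw [zpow_one, zpow_mul, eq_inv_of_mul_eq_one_right h1] at h3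
      exact h3 ▸ zpow_mem (inv_mem (zpow_mem (Subgroup.mem_zpowers x) a)) c
    have hb' : y ^ b = 1 := by
      rw [← orderOf_dvd_iff_zpow_eq_one]
      exact (Int.natCast_dvd_natCast.mpr (orderOf_dvd_of_pow_eq_one hy)).trans
        ((ZMod.intCast_zmod_eq_zero_iff_dvd b q).mp hb)
    rw [hb', mul_one, ← orderOf_dvd_iff_zpow_eq_one, orderOf_eq_prime hx hx1] at h1
    simp [hb, (ZMod.intCast_zmod_eq_zero_iff_dvd a q).mpr h1]
  have he : Function.Injective e := A.subtype_injective.comp fun u v h => hf h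
  have hrange : e.range ≤ A := by rintro _ ⟨u, rfl⟩; exact SetLike.coe_mem _
  have hqA : q ∣ Nat.card A := by
    rw [← orderOf_eq_prime hx hx1]; exact orderOf_dvd_natCard x
  have hqG : q.Coprime (Nat.card G) := hcop.coprime_dvd_left hqA
  have hAsolv : Group.IsSolvable A := Group.isSolvable_of_comm fun a b => mul_comm a b
  -- it is enough to contain an invariant Sylow subgroup for every prime
  have hsyl : ∀ p : ℕ, p.Prime → p ^ (Nat.card G).factorization p ∣ Nat.card ↥(G ⊓ W) := by
    intro p hp
    have := Fact.mk hp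
    obtain ⟨P, hP⟩ := exists_invariant_sylow hAG hcop (Or.inl hAsolv) p
    set P' := (P : Subgroup G).map G.subtype
    have hPG : P' ≤ G := Subgroup.map_subtype_le _
    have : Group.IsNilpotent P' := (P.isPGroup'.map G.subtype).isNilpotent
    have hle : P' ≤ W := closure_eq_aux _ P' e rfl inferInstance he (hrange.trans hP)
      (hqG.coprime_dvd_right (Subgroup.card_dvd_of_le hPG)) W (fun u hu =>
        (inf_le_inf_right _ hPG).trans (hW _ (hrange ⟨u, rfl⟩) (by
          intro h; exact hu (he (by rw [h, map_one])))))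
    rw [← P.card_eq_multiplicity, ← Subgroup.card_map_of_injective G.subtype_injective]
    exact Subgroup.card_dvd_of_le (le_inf hPG hle)
  have hdvd : Nat.card G ∣ Nat.card ↥(G ⊓ W) := by
    refine (Nat.factorization_le_iff_dvd Nat.card_pos.ne' Nat.card_pos.ne').mp fun p => ?_
    by_cases hp : p.Prime
    · exact (hp.pow_dvd_iff_le_factorization Nat.card_pos.ne').mp (hsyl p hp)
    · simp [hp]
  exact inf_eq_left.mp (Subgroup.eq_of_le_of_card_ge inf_le_left (Nat.le_of_dvd Nat.card_pos hdvd))

/-- **Generation by centralisers**, as an equality. -/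
theorem iSup_inf_centralizer_eq [Finite X] {G A : Subgroup X} [IsMulCommutative A]
    (hA : ¬ IsCyclic A) (hAG : A ≤ Subgroup.normalizer (G : Set X))
    (hcop : (Nat.card A).Coprime (Nat.card G)) :
    (⨆ a ∈ {a : X | a ∈ A ∧ a ≠ 1}, G ⊓ Subgroup.centralizer ({a} : Set X)) = G := by
  refine le_antisymm (iSup₂_le fun a _ => inf_le_left) ?_
  exact le_of_forall_inf_centralizer_le hA hAG hcop fun a ha ha1 =>
    le_iSup₂_of_le a ⟨ha, ha1⟩ le_rfl

end CfsgLib.Coprime
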