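import Mathlib.GroupTheory.SemidirectProduct
import Cfsg.Agent.Coprime.Action

/-!
Bridge from an action `φ : A →* MulAut G` to the subgroup form of the coprime-action lemmas, via
the semidirect product, together with the action forms of the main results.
-/

open Pointwise
open scoped commutatorElement
open SemidirectProduct

namespace CfsgLib.Coprime

variable {G A : Type*} [Group G] [Group A] (φ : A →* MulAut G)

theorem range_inr_le_normalizer_range_inl :
    (inr : A →* G ⋊[φ] A).range ≤
      Subgroup.normalizer ((inl : G →* G ⋊[φ] A).range : Set (G ⋊[φ] A)) := by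
  have : ((inl : G →* G ⋊[φ] A).range).Normal := by
    rw [range_inl_eq_ker_rightHom]; infer_instance
  exact Subgroup.le_normalizer_of_normal

theorem card_range_inl : Nat.card (inl : G →* G ⋊[φ] A).range = Nat.card G :=
  (Nat.card_congr (MonoidHom.ofInjective inl_injective).toEquiv).symm

theorem card_range_inr : Nat.card (inr : A →* G ⋊[φ] A).range = Nat.card A :=
  (Nat.card_congr (MonoidHom.ofInjective inr_injective).toEquiv).symm

theorem inl_mem_centralizer_iff {g : G} :
    (inl g : G ⋊[φ] A) ∈ Subgroup.centralizer ((inr : A →* G ⋊[φ] A).range : Set (G ⋊[φ] A)) ↔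
      ∀ a, φ a g = g := by
  rw [Subgroup.mem_centralizer_iff]
  constructor
  · intro h a
    have h1 := h _ ⟨a, rfl⟩
    rw [← inl_inj (φ := φ), inl_aut, h1, mul_assoc, ← map_mul, mul_inv_cancel, map_one, mul_one]
  · rintro h _ ⟨a, rfl⟩
    conv_rhs => rw [← h a, inl_aut]
    rw [mul_assoc, ← map_mul, inv_mul_cancel, map_one, mul_one]

theorem inl_conj (a : A) (g : G) :
    (inl (g⁻¹ * φ a g) : G ⋊[φ] A) = ⁅(inl g⁻¹ : G ⋊[φ] A), inr a⁆ := by
  rw [map_mul, inl_aut, commutatorElement_def]
  simp [mul_assoc]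

theorem isSolvable_range {Y Z : Type*} [Group Y] [Group Z] (f : Y →* Z) (h : Group.IsSolvable Y) :
    Group.IsSolvable f.range :=
  Group.isSolvable_of_surjective f.rangeRestrict_surjective

variable [Finite G] [Finite A]

theorem finite_semidirectProduct : Finite (G ⋊[φ] A) :=
  Finite.of_equiv _ (SemidirectProduct.equivProd (φ := φ)).symm

/-- An invariant coset of an invariant subgroup contains a fixed point. -/
theorem exists_fixed_mem_coset_hom {N : Subgroup G} (hN : ∀ a, ∀ x ∈ N, φ a x ∈ N)
    (hcop : (Nat.card A).Coprime (Nat.card N)) (hsolv : Group.IsSolvable A ∨ Group.IsSolvable N)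
    {k : G} (h : ∀ a, k⁻¹ * φ a k ∈ N) : ∃ c, (∀ a, φ a c = c) ∧ k⁻¹ * c ∈ N := by
  have := finite_semidirectProduct φ
  obtain ⟨c, hc, hcN⟩ := exists_fixed_mem_coset
    (A := (inr : A →* G ⋊[φ] A).range) (N := N.map inl) (k := inl k)
    (by
      rw [Subgroup.le_normalizer_iff]
      rintro _ ⟨a, rfl⟩ _ ⟨x, hx, rfl⟩
      exact ⟨φ a x, hN a x hx, by rw [inl_aut]; simp⟩)
    (by rwa [card_range_inr, Subgroup.card_map_of_injective inl_injective])
    (hsolv.imp (fun h => isSolvable_range _ h) fun (h : Group.IsSolvable N) =>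
      haveI : Group.IsSolvable N := h
      Group.isSolvable_of_surjective (f := (N.equivMapOfInjective _ inl_injective).toMonoidHom)
        (MulEquiv.surjective _))
    (by
      rintro _ ⟨a, rfl⟩
      exact ⟨k⁻¹ * φ a k, h a, by simp [inl_aut, mul_assoc]⟩)
  obtain ⟨z, hz, hzc⟩ := hcN
  have hc' : c = inl (k * z) := by rw [map_mul, hzc]; simp
  exact ⟨k * z, (inl_mem_centralizer_iff φ).mp (hc' ▸ hc), by simpa using hz⟩

/-- An action with coprime orders has an invariant Sylow subgroup. -/
theorem exists_invariant_sylow_hom (hcop : (Nat.card A).Coprime (Nat.card G))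
    (hsolv : Group.IsSolvable A ∨ Group.IsSolvable G) (p : ℕ) [Fact p.Prime] :
    ∃ P : Sylow p G, ∀ a, ∀ x ∈ (P : Subgroup G), φ a x ∈ (P : Subgroup G) := by
  have := finite_semidirectProduct φ
  obtain ⟨P, hP⟩ := exists_invariant_sylow (range_inr_le_normalizer_range_inl φ)
    (by rwa [card_range_inr, card_range_inl])
    (hsolv.imp (fun h => isSolvable_range _ h) (fun h => isSolvable_range _ h)) p
  let e := MonoidHom.ofInjective (f := (inl : G →* G ⋊[φ] A)) inl_injective
  have hc : Nat.card ((P : Subgroup _).map e.symm.toMonoidHom) =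
      p ^ (Nat.card G).factorization p := by
    rw [Subgroup.card_map_of_injective (f := e.symm.toMonoidHom) e.symm.injective,
      P.card_eq_multiplicity, card_range_inl]
  refine ⟨Sylow.ofCard _ hc, fun a x hx => ?_⟩
  rw [Sylow.coe_ofCard] at hx ⊢
  obtain ⟨y, hy, rfl⟩ := hx
  have h1 := (Subgroup.mem_normalizer_iff.mp (hP ⟨a, rfl⟩) _).mp
    (Subgroup.mem_map_of_mem _ hy)
  obtain ⟨z, hz, hzeq⟩ := h1
  refine ⟨z, hz, inl_injective (φ := φ) ?_⟩
  have hz' : ∀ w : (inl : G →* G ⋊[φ] A).range, inl (e.symm w) = (w : G ⋊[φ] A) := fun w => by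
    conv_rhs => rw [← e.apply_symm_apply w]
    rfl
  rw [inl_aut]
  simp only [MulEquiv.coe_toMonoidHom, hz']
  simpa using hzeq

/-- Fixed points and commutators generate, action form. -/
theorem closure_fixed_union_commutators_eq_top (hcop : (Nat.card A).Coprime (Nat.card G))
    (hsolv : Group.IsSolvable A ∨ Group.IsSolvable G) :
    Subgroup.closure ({g : G | ∀ a, φ a g = g} ∪ {x : G | ∃ g a, x = g⁻¹ * φ a g}) = ⊤ := by
  set N := Subgroup.closure {x : G | ∃ g a, x = g⁻¹ * φ a g} with hN
  rw [eq_top_iff]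
  intro k _
  obtain ⟨c, hc, hcN⟩ := exists_fixed_mem_coset_hom φ (N := N)
    (fun a x hx => by
      refine Subgroup.closure_le (K := N.comap (φ a).toMonoidHom) |>.mpr ?_ hx
      rintro _ ⟨g, b, rfl⟩
      show φ a (g⁻¹ * φ b g) ∈ N
      have h1 : φ a (g⁻¹ * φ b g) = (g⁻¹ * φ a g)⁻¹ * (g⁻¹ * φ (a * b) g) := by
        simp [mul_assoc]
      rw [h1]
      exact mul_mem (inv_mem (Subgroup.subset_closure ⟨g, a, rfl⟩))
        (Subgroup.subset_closure ⟨g, a * b, rfl⟩))
    (hcop.coprime_dvd_right (Subgroup.card_subgroup_dvd_card N))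
    (hsolv.imp_right fun (h : Group.IsSolvable G) => haveI : Group.IsSolvable G := h; inferInstance) (k := k)
    (fun a => Subgroup.subset_closure ⟨k, a, rfl⟩)
  have h1 : k = c * (k⁻¹ * c)⁻¹ := by group
  rw [h1, Subgroup.closure_union]
  exact Subgroup.mul_mem_sup (Subgroup.subset_closure hc) (inv_mem hcN)

/-- An action that fixes the elements of a normal series `G ≥ N ≥ 1` modulo the next term and is
coprime is trivial. -/
theorem eq_of_fixes_series (hcop : (Nat.card A).Coprime (Nat.card G)) {N : Subgroup G}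
    (hfix : ∀ a, ∀ x ∈ N, φ a x = x) (hquot : ∀ a g, g⁻¹ * φ a g ∈ N) (a : A) (g : G) :
    φ a g = g := by
  set n := g⁻¹ * φ a g with hn
  have hiter : ∀ i : ℕ, φ (a ^ i) g = g * n ^ i := by
    intro i
    induction i with
    | zero => simp
    | succ i ih =>
      rw [pow_succ', map_mul, MulAut.mul_apply, ih, map_mul,
        hfix a (n ^ i) (pow_mem (hquot a g) i), pow_succ', ← mul_assoc, hn, mul_inv_cancel_left]
  have h1 := hiter (orderOf a)
  rw [pow_orderOf_eq_one, map_one, MulAut.one_apply, left_eq_mul] at h1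
  have h2 : orderOf n = 1 := Nat.eq_one_of_dvd_coprimes hcop
    ((orderOf_dvd_of_pow_eq_one h1).trans (orderOf_dvd_natCard a)) (orderOf_dvd_natCard n)
  rw [orderOf_eq_one_iff, hn, inv_mul_eq_one] at h2
  exact h2.symm

end CfsgLib.Coprime
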